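import Groth.Agent.CubicLib.Section

/-!
# Linear forms and binary cubics
-/

namespace Groth.Agent.CubicLib

universe u

open MvPolynomial Module in
/-- a binary quadratic form is a product of two linear forms -/
theorem factor_quadratic {K : Type u} [Field K] [IsAlgClosed K] (A B C : K) :
    ∃ p q p' q' : K, ∀ s t : K, A * s ^ 2 + B * s * t + C * t ^ 2 = (p * s + q * t) * (p' * s + q' * t) := by
  rcases eq_or_ne A 0 with hA | hA
  · exact ⟨0, 1, B, C, fun s t => by rw [hA]; ring⟩
  · obtain ⟨z, hz⟩ := Cubic.exists_root_quadratic A B C hA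
    refine ⟨A, -(A * z), 1, z + B / A, fun s t => ?_⟩
    field_simp
    linear_combination (t ^ 2) * hz

/-- a binary cubic form is a product of three linear forms -/
theorem factor_cubic {K : Type u} [Field K] [IsAlgClosed K] (A B C D : K) :
    ∃ p₁ q₁ p₂ q₂ p₃ q₃ : K, ∀ s t : K, A * s ^ 3 + B * s ^ 2 * t + C * s * t ^ 2 + D * t ^ 3 =
      (p₁ * s + q₁ * t) * ((p₂ * s + q₂ * t) * (p₃ * s + q₃ * t)) := by
  rcases eq_or_ne A 0 with hA | hA
  · obtain ⟨p, q, p', q', h⟩ := factor_quadratic B C D
    exact ⟨0, 1, p, q, p', q', fun s t => by rw [← h, hA]; ring⟩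
  · obtain ⟨z, hz⟩ := IsAlgClosed.exists_root (Polynomial.C A * Polynomial.X ^ 3 + Polynomial.C B * Polynomial.X ^ 2 +
      Polynomial.C C * Polynomial.X + Polynomial.C D) (by
        intro h0
        have h := Polynomial.natDegree_eq_of_degree_eq_some (n := 0) h0
        have h3 : (Polynomial.C A * Polynomial.X ^ 3 + Polynomial.C B * Polynomial.X ^ 2 +
          Polynomial.C C * Polynomial.X + Polynomial.C D).natDegree = 3 := by compute_degree!
        omega)
    simp at hz
    obtain ⟨p, q, p', q', h⟩ := factor_quadratic A (B + A * z) (C + B * z + A * z ^ 2)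
    exact ⟨1, -z, p, q, p', q', fun s t => by rw [← h]; linear_combination (t ^ 3) * hz⟩

open MvPolynomial in
/-- the linear form attached to a functional -/
noncomputable def linForm {K : Type u} [Field K] (φ : (Fin 4 → K) →ₗ[K] K) : MvPolynomial (Fin 4) K :=
  ∑ i, C (φ (Pi.single i 1)) * X i

open MvPolynomial in
theorem eval_linForm {K : Type u} [Field K] (φ : (Fin 4 → K) →ₗ[K] K) (v : Fin 4 → K) :
    eval v (linForm φ) = φ v := by
  conv_rhs => rw [pi_eq_sum_univ' v, map_sum]
  simp [linForm, mul_comm]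

open MvPolynomial in
theorem mem_span_of_vanish {K : Type u} [Field K] [Infinite K] (φ : (Fin 4 → K) →ₗ[K] K) (w : Fin 4 → K)
    (hw : φ w = 1) (p : MvPolynomial (Fin 4) K) (hp : ∀ v, φ v = 0 → eval v p = 0) :
    p ∈ Ideal.span {linForm φ} := by
  let g : Fin 4 → MvPolynomial (Fin 4) K := fun i => X i - linForm φ * C (w i)
  have h0 : aeval g p = 0 := MvPolynomial.funext fun v => by
    have : (eval v).comp (aeval g).toRingHom = eval (v - φ v • w) := by
      refine MvPolynomial.ringHom_ext (fun c => by simp) fun i => ?_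
      simp [g, eval_linForm]
    rw [map_zero]
    show ((eval v).comp (aeval g).toRingHom) p = 0
    rw [this]
    exact hp _ (by rw [map_sub, map_smul, hw, smul_eq_mul, mul_one, sub_self])
  have hq : ((Ideal.Quotient.mk (Ideal.span {linForm φ})).comp (aeval g).toRingHom) =
      Ideal.Quotient.mk (Ideal.span {linForm φ}) := by
    refine MvPolynomial.ringHom_ext (fun c => by simp) fun i => ?_
    simp only [RingHom.comp_apply, AlgHom.toRingHom_eq_coe, RingHom.coe_coe, aeval_X]
    rw [Ideal.Quotient.mk_eq_mk_iff_sub_mem, Ideal.mem_span_singleton]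
    exact ⟨-C (w i), by simp [g]⟩
  rw [← Ideal.Quotient.eq_zero_iff_mem, ← hq]
  show Ideal.Quotient.mk _ (aeval g p) = 0
  rw [h0, map_zero]

theorem isHomogeneous_linForm {K : Type u} [Field K] (φ : (Fin 4 → K) →ₗ[K] K) : (linForm φ).IsHomogeneous 1 :=
  MvPolynomial.IsHomogeneous.sum _ _ _ fun _ _ => MvPolynomial.isHomogeneous_C_mul_X _ _

end Groth.Agent.CubicLib
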