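import Groth.Agent.CubicLib.TPoints
import Groth.Agent.CubicLib.LinForm

/-!
# Rational points of a cubic surface with a rational point which is not a T-point

The two tangent-section constructions: the rational points avoid any finite union of planes.
-/

namespace Groth.Agent.CubicLib

open Module

universe u v

noncomputable section

variable {k : Type u} [Field k] {K : Type v} [Field K] [Algebra k K]

/-- extension of scalars on coordinate vectors -/
def ext (K : Type v) [Field K] [Algebra k K] (x : Fin 4 → k) : Fin 4 → K := fun i => algebraMap k K (x i)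

theorem ext_add (x y : Fin 4 → k) : ext K (x + y) = ext K x + ext K y := by funext i; simp [ext]

theorem ext_smul (c : k) (x : Fin 4 → k) : ext K (c • x) = algebraMap k K c • ext K x := by
  funext i; simp [ext]

theorem ext_single (i : Fin 4) : ext K (Pi.single i 1 : Fin 4 → k) = Pi.single i 1 := by
  funext j
  rcases eq_or_ne j i with rfl | h <;> simp [ext, *]

theorem ext_inj : Function.Injective (ext K : (Fin 4 → k) → (Fin 4 → K)) := fun x y h => funext fun i =>
  (algebraMap k K).injective (congrFun h i)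

theorem ext_ne_zero {x : Fin 4 → k} (hx : x ≠ 0) : ext K x ≠ 0 := fun h =>
  hx (ext_inj (h.trans (by funext i; simp [ext])))

/-- compatibility of cubic forms over a field and an extension -/
def Compat (G : Cubic k (Fin 4 → k)) (GK : Cubic K (Fin 4 → K)) : Prop :=
  ∀ x y z, GK.T (ext K x) (ext K y) (ext K z) = algebraMap k K (G.T x y z)

theorem Compat.F {G : Cubic k (Fin 4 → k)} {GK : Cubic K (Fin 4 → K)} (h : Compat G GK) (x : Fin 4 → k) :
    GK.F (ext K x) = algebraMap k K (G.F x) := h x x x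

/-- Avoidance of finitely many planes by rational points. -/
def Avoids (G : Cubic k (Fin 4 → k)) : Prop :=
  ∀ Λ : Finset ((Fin 4 → k) →ₗ[k] k), (∀ l ∈ Λ, l ≠ 0) → ∃ p, G.F p = 0 ∧ ∀ l ∈ Λ, l p ≠ 0

theorem compat_of_map [CharZero k] [CharZero K] {F : MvPolynomial (Fin 4) k} {G : Cubic k (Fin 4 → k)}
    {GK : Cubic K (Fin 4 → K)}
    (hG : ∀ v i, MvPolynomial.eval v (MvPolynomial.pderiv i F) = 3 * G.T v v (Pi.single i 1))
    (hGK : ∀ v i, MvPolynomial.eval v (MvPolynomial.pderiv i (MvPolynomial.map (algebraMap k K) F)) =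
      3 * GK.T v v (Pi.single i 1)) : Compat G GK := by
  have h1 : ∀ v i, GK.T (ext K v) (ext K v) (Pi.single i 1) = algebraMap k K (G.T v v (Pi.single i 1)) := by
    intro v i
    have h := hGK (ext K v) i
    rw [MvPolynomial.pderiv_map, MvPolynomial.eval_map] at h
    have h' : MvPolynomial.eval₂ (algebraMap k K) (ext K v) (MvPolynomial.pderiv i F) =
        algebraMap k K (MvPolynomial.eval v (MvPolynomial.pderiv i F)) :=
      (MvPolynomial.eval₂_comp (algebraMap k K) v (MvPolynomial.pderiv i F)).symm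
    rw [h', hG, map_mul, map_ofNat] at h
    exact (mul_left_cancel₀ (by norm_num) h).symm
  have h2 : ∀ v z, GK.T (ext K v) (ext K v) (ext K z) = algebraMap k K (G.T v v z) := by
    intro v z
    rw [pi_eq_sum_univ' (ext K z), map_sum]
    conv_rhs => rw [pi_eq_sum_univ' z, map_sum, map_sum]
    refine Finset.sum_congr rfl fun i _ => ?_
    simp only [map_smul, smul_eq_mul, map_mul, h1]
    rfl
  intro x y z
  have h := h2 (x + y) z
  rw [ext_add] at h
  simp only [map_add, LinearMap.add_apply] at h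
  rw [h2, h2, GK.symm₁₂ (ext K y), G.symm₁₂ y x z] at h
  exact mul_left_cancel₀ (by norm_num : (2 : K) ≠ 0) (by linear_combination h)

section Param

variable [CharZero k] [CharZero K] {G : Cubic k (Fin 4 → k)} {GK : Cubic K (Fin 4 → K)}

omit [Algebra k K] [CharZero k] [CharZero K] in
theorem F_plane (G : Cubic k (Fin 4 → k)) {b x y : Fin 4 → k} (hb : G.F b = 0) (hx : G.T b b x = 0)
    (hy : G.T b b y = 0) (r s t : k) :
    G.F (r • b + s • x + t • y) =
      3 * r * (G.T b x x * s ^ 2 + 2 * G.T b x y * s * t + G.T b y y * t ^ 2) +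
        (G.F x * s ^ 3 + 3 * G.T x x y * s ^ 2 * t + 3 * G.T x y y * s * t ^ 2 + G.F y * t ^ 3) := by
  rw [G.F_comb₃, hb, hx, hy]
  ring

omit [Algebra k K] [CharZero k] [CharZero K] in
theorem exists_adapted (l : (Fin 4 → k) →ₗ[k] k) (hl : l ≠ 0) {b : Fin 4 → k} (hb : b ≠ 0) (hlb : l b = 0) :
    ∃ x y w, l x = 0 ∧ l y = 0 ∧ l w = 1 ∧ ∀ v, ∃ r s t u : k, v = r • b + s • x + t • y + u • w := by
  have h3 : finrank k (LinearMap.ker l) = 3 := by
    have h1 := LinearMap.finrank_range_add_finrank_ker l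
    rw [LinearMap.range_eq_top.2 (LinearMap.surjective hl), finrank_top, Module.finrank_self,
      Module.finrank_fin_fun] at h1
    omega
  have hb' : Submodule.span k {b} ≤ LinearMap.ker l :=
    (Submodule.span_singleton_le_iff_mem _ _).2 hlb
  obtain ⟨x, hx, hxb⟩ := SetLike.exists_of_lt (lt_of_le_of_ne hb' fun h => by
    rw [← h, finrank_span_singleton hb] at h3; omega)
  have hlt : Submodule.span k {b} < Submodule.span k {b, x} := lt_of_le_of_ne
    (Submodule.span_mono (by simp)) fun h => hxb (h ▸ Submodule.subset_span (by simp))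
  have hbx : Submodule.span k {b, x} ≤ LinearMap.ker l := Submodule.span_le.2 (by
    rintro z (rfl | rfl) <;> assumption)
  obtain ⟨y, hy, hyx⟩ := SetLike.exists_of_lt (lt_of_le_of_ne hbx fun h => by
    have := finrank_span_pair_le (K := k) b x
    rw [h, h3] at this; omega)
  have hlt' : Submodule.span k {b, x} < Submodule.span k {b, x, y} := lt_of_le_of_ne
    (Submodule.span_mono (by intro z hz; simp at hz ⊢; tauto)) fun h => hyx (h ▸ Submodule.subset_span (by simp))
  have heq : Submodule.span k {b, x, y} = LinearMap.ker l := by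
    refine Submodule.eq_of_le_of_finrank_le (Submodule.span_le.2 (by rintro z (rfl | rfl | rfl) <;> assumption)) ?_
    have a := Submodule.finrank_lt_finrank_of_lt hlt
    have b' := Submodule.finrank_lt_finrank_of_lt hlt'
    rw [finrank_span_singleton hb] at a
    omega
  obtain ⟨w, hw⟩ := LinearMap.surjective hl 1
  refine ⟨x, y, w, hx, hy, hw, fun v => ?_⟩
  have hv : v - l v • w ∈ Submodule.span k {b, x, y} := by
    rw [heq, LinearMap.mem_ker, map_sub, map_smul, hw, smul_eq_mul, mul_one, sub_self]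
  rw [Submodule.mem_span_insert] at hv
  obtain ⟨r, z, hz, hv⟩ := hv
  obtain ⟨s, t, rfl⟩ := Submodule.mem_span_pair.1 hz
  exact ⟨r, s, t, l v, by rw [add_assoc (r • b), ← hv]; abel⟩

omit [CharZero k] [CharZero K] in
/-- every vector over the extension -/
theorem ext_spans {b x y w : Fin 4 → k} (h : ∀ v, ∃ r s t u : k, v = r • b + s • x + t • y + u • w)
    (v : Fin 4 → K) : ∃ r s t u : K, v = r • ext K b + s • ext K x + t • ext K y + u • ext K w := by
  choose R S T U he using h
  refine ⟨∑ i, v i * algebraMap k K (R (Pi.single i 1)), ∑ i, v i * algebraMap k K (S (Pi.single i 1)),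
    ∑ i, v i * algebraMap k K (T (Pi.single i 1)), ∑ i, v i * algebraMap k K (U (Pi.single i 1)), ?_⟩
  simp only [Finset.sum_smul, mul_smul, ← Finset.sum_add_distrib, ← smul_add, ← ext_smul, ← ext_add, ← he,
    ext_single]
  exact pi_eq_sum_univ' v

omit [CharZero k] [CharZero K] in
/-- coordinates in an adapted frame -/
theorem exists_coords {b x y w : Fin 4 → k} (h : ∀ v, ∃ r s t u : k, v = r • b + s • x + t • y + u • w) :
    ∃ L : Fin 3 → ((Fin 4 → K) →ₗ[K] K), ∀ r s t : K, L 0 (r • ext K b + s • ext K x + t • ext K y) = r ∧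
      L 1 (r • ext K b + s • ext K x + t • ext K y) = s ∧ L 2 (r • ext K b + s • ext K x + t • ext K y) = t := by
  have hli : LinearIndependent K ![ext K b, ext K x, ext K y, ext K w] :=
    linearIndependent_of_top_le_span_of_card_eq_finrank (fun v _ => by
      obtain ⟨r, s, t, u, rfl⟩ := ext_spans (K := K) h v
      exact (Submodule.mem_span_range_iff_exists_fun K).2 ⟨![r, s, t, u], by simp [Fin.sum_univ_four]⟩) (by simp)
  let bas : Basis (Fin 4) K (Fin 4 → K) := basisOfLinearIndependentOfCardEqFinrank hli (by simp)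
  have e0 : ext K b = bas 0 := by simp [bas]
  have e1 : ext K x = bas 1 := by simp [bas]
  have e2 : ext K y = bas 2 := by simp [bas]
  refine ⟨![bas.coord 0, bas.coord 1, bas.coord 2], fun r s t => ?_⟩
  rw [e0, e1, e2]
  simp [bas.coord_apply, Finsupp.single_apply]

omit [Algebra k K] [CharZero K] in
/-- a binary cubic polynomial with a nonzero coefficient has finitely many zeros -/
theorem finite_zeros (f : k → k) (c₀ c₁ c₂ c₃ : k) (hf : ∀ m, f m = c₀ + c₁ * m + c₂ * m ^ 2 + c₃ * m ^ 3)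
    (h : c₀ ≠ 0 ∨ c₁ ≠ 0 ∨ c₂ ≠ 0 ∨ c₃ ≠ 0) : {m | f m = 0}.Finite := by
  let p : Polynomial k := Polynomial.C c₀ + Polynomial.C c₁ * Polynomial.X + Polynomial.C c₂ * Polynomial.X ^ 2 +
    Polynomial.C c₃ * Polynomial.X ^ 3
  have hp : p ≠ 0 := fun h0 => by
    have a₀ := congrArg (Polynomial.coeff · 0) h0
    have a₁ := congrArg (Polynomial.coeff · 1) h0
    have a₂ := congrArg (Polynomial.coeff · 2) h0
    have a₃ := congrArg (Polynomial.coeff · 3) h0
    simp [p] at a₀ a₁ a₂ a₃
    tauto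
  exact (Polynomial.finite_setOfPred_isRoot hp).subset fun m hm => by
    simpa [p, Polynomial.IsRoot, hf] using hm

/-- The rational parametrisation of the tangent section. -/
theorem exists_param [IsAlgClosed K] (hc : Compat G GK) {b : Fin 4 → k} (hb : b ≠ 0) (hFb : G.F b = 0)
    (hbb : G.T b b ≠ 0) (hnt : ¬ IsTriple GK (LinearMap.ker (GK.T (ext K b) (ext K b)))) :
    ∃ φ : k → (Fin 4 → k), (∀ m, G.F (φ m) = 0) ∧ (∀ m, G.T b b (φ m) = 0) ∧
      {m | G.T (φ m) (φ m) b = 0}.Finite ∧
      ∀ l : (Fin 4 → k) →ₗ[k] k, (∃ h, G.T b b h = 0 ∧ l h ≠ 0) → {m | l (φ m) = 0}.Finite := by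
  obtain ⟨x, y, w, hx, hy, hw, hsp⟩ := exists_adapted (G.T b b) hbb hb hFb
  set A := G.T b x x with hA
  set B := G.T b x y with hB
  set C := G.T b y y with hC
  set e₀ := G.F x with he₀
  set e₁ := G.T x x y with he₁
  set e₂ := G.T x y y with he₂
  set e₃ := G.F y with he₃
  -- the section over the extension
  have hsec : ∀ v ∈ LinearMap.ker (GK.T (ext K b) (ext K b)), ∃ r s t : K, v = r • ext K b + s • ext K x + t • ext K y ∧
      GK.F v = 3 * r * (algebraMap k K A * s ^ 2 + 2 * algebraMap k K B * s * t + algebraMap k K C * t ^ 2) +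
        (algebraMap k K e₀ * s ^ 3 + 3 * algebraMap k K e₁ * s ^ 2 * t + 3 * algebraMap k K e₂ * s * t ^ 2 +
          algebraMap k K e₃ * t ^ 3) := by
    intro v hv
    obtain ⟨r, s, t, u, rfl⟩ := ext_spans (K := K) hsp v
    have hu : u = 0 := by
      simpa [hc b b b, hc b b x, hc b b y, hc b b w, hx, hy, hw, show G.T b b b = 0 from hFb] using
        LinearMap.mem_ker.1 hv
    subst hu
    refine ⟨r, s, t, by simp, ?_⟩
    rw [zero_smul, add_zero, F_plane GK (by rw [hc.F, hFb, map_zero]) (by rw [hc, hx, map_zero])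
      (by rw [hc, hy, map_zero]), hc, hc, hc, hc, hc, hc.F, hc.F]
  obtain ⟨L, hL⟩ := exists_coords (K := K) hsp
  set w' := L 0
  set ws := L 1
  set wt := L 2
  have hw' : ∀ r s t, w' (r • ext K b + s • ext K x + t • ext K y) = r := fun r s t => (hL r s t).1
  have hws : ∀ r s t, ws (r • ext K b + s • ext K x + t • ext K y) = s := fun r s t => (hL r s t).2.1
  have hwt : ∀ r s t, wt (r • ext K b + s • ext K x + t • ext K y) = t := fun r s t => (hL r s t).2.2
  -- the polar conic is not zero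
  have hq : A ≠ 0 ∨ B ≠ 0 ∨ C ≠ 0 := by
    by_contra! h
    obtain ⟨p₁, q₁, p₂, q₂, p₃, q₃, hfac⟩ := factor_cubic (algebraMap k K e₀) (3 * algebraMap k K e₁)
      (3 * algebraMap k K e₂) (algebraMap k K e₃)
    refine hnt ⟨p₁ • ws + q₁ • wt, p₂ • ws + q₂ • wt, p₃ • ws + q₃ • wt, fun v hv => ?_⟩
    obtain ⟨r, s, t, rfl, hF⟩ := hsec v hv
    rw [hF, h.1, h.2.1, h.2.2]
    simp only [map_zero, zero_mul, mul_zero, add_zero, zero_add, LinearMap.add_apply, LinearMap.smul_apply,
      hws, hwt, smul_eq_mul]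
    linear_combination hfac s t
  let q : k → k := fun m => A + 2 * B * m + C * m ^ 2
  let c : k → k := fun m => e₀ + 3 * e₁ * m + 3 * e₂ * m ^ 2 + e₃ * m ^ 3
  let φ : k → (Fin 4 → k) := fun m => (-c m) • b + (3 * q m) • x + (3 * q m * m) • y
  have hφb : ∀ m, G.T (φ m) (φ m) b = 9 * q m ^ 3 := by
    intro m
    simp only [φ, map_add, map_smul, LinearMap.add_apply, LinearMap.smul_apply, smul_eq_mul]
    rw [G.symm₁₃ b x b, G.symm₁₃ b y b, G.symm₂₃ x b b, G.symm₁₂ x b b, G.symm₂₃ y b b, G.symm₁₂ y b b,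
      show G.T b b b = 0 from hFb, G.symm₁₃ x x b, G.symm₁₃ y y b, G.symm₁₃ x y b, G.symm₁₃ y x b,
      G.symm₂₃ b y x, G.symm₂₃ b x b, G.symm₂₃ b y b, hx, hy]
    ring
  refine ⟨φ, fun m => ?_, fun m => ?_, ?_, fun l hl => ?_⟩
  · rw [F_plane G hFb hx hy]
    ring
  · simp [φ, hx, hy, show G.T b b b = 0 from hFb]
  · refine (finite_zeros (fun m => A + 2 * B * m + C * m ^ 2) A (2 * B) C 0 (fun m => by ring) ?_).subset
      fun m hm => ?_
    · rcases hq with h | h | h
      · exact Or.inl h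
      · exact Or.inr (Or.inl (mul_ne_zero two_ne_zero h))
      · exact Or.inr (Or.inr (Or.inl h))
    · simp only [Set.mem_setOf_eq, hφb, mul_eq_zero] at hm
      exact eq_zero_of_pow_eq_zero (hm.resolve_left (by norm_num))
  · set lb := l b
    set lx := l x
    set ly := l y
    refine finite_zeros _ (-lb * e₀ + 3 * A * lx) (-lb * (3 * e₁) + 3 * (A * ly + 2 * B * lx))
      (-lb * (3 * e₂) + 3 * (2 * B * ly + C * lx)) (-lb * e₃ + 3 * C * ly) (fun m => by
        simp only [φ, q, c, map_add, map_smul, smul_eq_mul]; ring) ?_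
    by_contra! h
    obtain ⟨h₀, h₁, h₂, h₃⟩ := h
    by_cases hlb : lb = 0
    · -- then the functional vanishes on the tangent plane
      rw [hlb] at h₀ h₁ h₂ h₃
      simp only [neg_zero, zero_mul, zero_add, mul_eq_zero, OfNat.ofNat_ne_zero, false_or] at h₀ h₁ h₂ h₃
      obtain ⟨g, hg, hlg⟩ := hl
      obtain ⟨r, s, t, u, rfl⟩ := hsp g
      have hu : u = 0 := by simpa [hx, hy, hw, show G.T b b b = 0 from hFb] using hg
      have hxy : lx = 0 ∧ ly = 0 := by
        rcases eq_or_ne A 0 with hA0 | hA0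
        · rcases eq_or_ne B 0 with hB0 | hB0
          · have hC0 : C ≠ 0 := (hq.resolve_left (not_not.2 hA0)).resolve_left (not_not.2 hB0)
            simp [hB0, hC0] at h₂ h₃
            exact ⟨h₂, h₃⟩
          · simp [hA0, hB0] at h₁
            simp [h₁, hB0] at h₂
            exact ⟨h₁, h₂⟩
        · have hlx : lx = 0 := h₀.resolve_left hA0
          simp [hlx, hA0] at h₁
          exact ⟨hlx, h₁⟩
      refine hlg ?_
      simp only [map_add, map_smul, hu, zero_smul, show l b = 0 from hlb, show l x = 0 from hxy.1,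
        show l y = 0 from hxy.2, smul_zero, add_zero]
    · -- otherwise the polar conic divides the section
      obtain ⟨p, q', p', q'', hfac⟩ := factor_quadratic (algebraMap k K A) (2 * algebraMap k K B) (algebraMap k K C)
      refine hnt ⟨p • ws + q' • wt, p' • ws + q'' • wt, (3 : K) • w' + (3 * (algebraMap k K lb)⁻¹) •
        (algebraMap k K lx • ws + algebraMap k K ly • wt), fun v hv => ?_⟩
      obtain ⟨r, s, t, rfl, hF⟩ := hsec v hv
      rw [hF]
      simp only [LinearMap.add_apply, LinearMap.smul_apply, hws, hwt, hw', smul_eq_mul]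
      rw [← hfac]
      have hlbK : algebraMap k K lb ≠ 0 := by simpa using hlb
      have k₀ := congrArg (algebraMap k K) h₀
      have k₁ := congrArg (algebraMap k K) h₁
      have k₂ := congrArg (algebraMap k K) h₂
      have k₃ := congrArg (algebraMap k K) h₃
      simp only [map_add, map_mul, map_neg, map_ofNat, map_zero] at k₀ k₁ k₂ k₃
      field_simp
      linear_combination (-s ^ 3) * k₀ - (s ^ 2 * t) * k₁ - (s * t ^ 2) * k₂ - t ^ 3 * k₃

end Param

section Avoid

variable [CharZero k] [CharZero K] [IsAlgClosed K] {G : Cubic k (Fin 4 → k)} {GK : Cubic K (Fin 4 → K)}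

omit [CharZero k] [CharZero K] [IsAlgClosed K] in
theorem ker_eq_ker {l m : (Fin 4 → k) →ₗ[k] k} (hl : l ≠ 0) (hm : m ≠ 0)
    (h : ∀ v, m v = 0 → l v = 0) (v : Fin 4 → k) (hv : l v = 0) : m v = 0 := by
  obtain ⟨w, hw⟩ := LinearMap.surjective hm 1
  have hlw : l w ≠ 0 := fun h0 => hl (LinearMap.ext fun u => by
    have := h (u - m u • w) (by rw [map_sub, map_smul, hw, smul_eq_mul, mul_one, sub_self])
    simpa [h0] using this)
  have := h (v - m v • w) (by rw [map_sub, map_smul, hw, smul_eq_mul, mul_one, sub_self])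
  simpa [hv, hlw] using this

/-- The smooth case: two successive tangent sections. -/
theorem avoids_smooth (hc : Compat G GK) (hnp : NoPlane GK) {a : Fin 4 → k} (hFa : G.F a = 0)
    (haa : G.T a a ≠ 0) (hnt : ¬ IsTriple GK (LinearMap.ker (GK.T (ext K a) (ext K a)))) : Avoids G := by
  classical
  intro Λ hΛ
  have ha : a ≠ 0 := fun h => haa (by simp [h])
  obtain ⟨φ, hφF, hφH, hφq, hφl⟩ := exists_param hc ha hFa haa hnt
  have hKaa : GK.T (ext K a) (ext K a) ≠ 0 := by
    intro h0
    refine haa (LinearMap.ext fun v => (algebraMap k K).injective ?_)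
    rw [← hc, h0, LinearMap.zero_apply, LinearMap.zero_apply, map_zero]
  have hTfin := finite_TPts hnp (a := ext K a) (by rw [show GK.T _ _ _ = GK.F (ext K a) from rfl, hc.F, hFa,
    map_zero]) hKaa hnt
  -- parameters giving a T-point
  have hbad : ∀ U : Submodule K (Fin 4 → K), finrank K U = 1 →
      {m | G.T (φ m) (φ m) a ≠ 0 ∧ ext K (φ m) ∈ U}.Finite := by
    intro U hU
    rcases Set.eq_empty_or_nonempty {m | G.T (φ m) (φ m) a ≠ 0 ∧ ext K (φ m) ∈ U} with he | ⟨m₀, hm₀, hm₀U⟩
    · rw [he]; exact Set.finite_empty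
    set v₀ := φ m₀
    have hv₀ : v₀ ≠ 0 := fun h => hm₀ (by rw [h]; simp)
    obtain ⟨j, hj⟩ : ∃ j, v₀ j ≠ 0 := Function.ne_iff.1 hv₀
    have hmem : G.T a a v₀ = 0 := hφH m₀
    obtain ⟨g, hg, hgv⟩ : ∃ g, G.T a a g = 0 ∧ ∀ c : k, g ≠ c • v₀ := by
      by_contra! hall
      obtain ⟨x, y, w, hx, hy, hw, hsp⟩ := exists_adapted (G.T a a) haa ha hFa
      obtain ⟨c, hc'⟩ := hall a hFa
      obtain ⟨cx, hcx⟩ := hall x hx
      obtain ⟨cy, hcy⟩ := hall y hy
      have htop : (⊤ : Submodule k (Fin 4 → k)) ≤ Submodule.span k {v₀, w} := fun v _ => by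
        obtain ⟨r, s, t, u, rfl⟩ := hsp v
        rw [hc', hcx, hcy]
        exact Submodule.mem_span_pair.2 ⟨r * c + s * cx + t * cy, u, by module⟩
      have := (Submodule.finrank_mono htop).trans (finrank_span_pair_le v₀ w)
      rw [finrank_top, Module.finrank_fin_fun] at this
      omega
    obtain ⟨l, hlv, hlg⟩ : ∃ l : (Fin 4 → k) →ₗ[k] k, l v₀ = 0 ∧ l g ≠ 0 := by
      obtain ⟨l, hl1, hl2⟩ := (Submodule.span k {v₀}).exists_dual_map_eq_bot_of_notMem (x := g) (fun h => by
        obtain ⟨c, hc⟩ := Submodule.mem_span_singleton.1 h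
        exact hgv c hc.symm) inferInstance
      exact ⟨l, (Submodule.mem_bot k).1 (hl2 ▸ Submodule.mem_map_of_mem (Submodule.mem_span_singleton_self v₀)), hl1⟩
    refine (hφl l ⟨g, hg, hlg⟩).subset fun m ⟨_, hm⟩ => ?_
    obtain ⟨c, hcm⟩ : ∃ c : K, c • ext K v₀ = ext K (φ m) := Submodule.mem_span_singleton.1 (by
      rwa [Submodule.eq_of_le_of_finrank_eq ((Submodule.span_singleton_le_iff_mem _ U).2 hm₀U)
        (by rw [finrank_span_singleton (ext_ne_zero hv₀), hU])])
    have he : φ m = (φ m j / v₀ j) • v₀ := by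
      funext i
      refine (algebraMap k K).injective ?_
      have hi := congrFun hcm i
      have hj' := congrFun hcm j
      simp only [ext, Pi.smul_apply, smul_eq_mul] at hi hj'
      simp only [Pi.smul_apply, smul_eq_mul, map_mul, map_div₀, ← hi, ← hj']
      field_simp [(map_ne_zero (algebraMap k K)).2 hj]
    show l (φ m) = 0
    rw [he, map_smul, hlv, smul_zero]
  -- a good first point
  obtain ⟨m₀, hm₀⟩ : ∃ m, m ∉ {m | G.T (φ m) (φ m) a = 0} ∪
      ((⋃ l ∈ {l ∈ (↑Λ : Set ((Fin 4 → k) →ₗ[k] k)) | ∃ h, G.T a a h = 0 ∧ l h ≠ 0}, {m | l (φ m) = 0}) ∪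
       ⋃ U ∈ {U : Submodule K (Fin 4 → K) | finrank K U = 1 ∧ U ≤ LinearMap.ker (GK.T (ext K a) (ext K a)) ∧
          ∀ b ∈ U, b ≠ 0 → IsTPt GK b}, {m | G.T (φ m) (φ m) a ≠ 0 ∧ ext K (φ m) ∈ U}) :=
    (hφq.union (((Λ.finite_toSet.subset fun l hl => hl.1).biUnion fun l hl => hφl l hl.2).union
      (hTfin.biUnion fun U hU => hbad U hU.1))).exists_notMem
  simp only [Set.mem_union, Set.mem_setOf_eq, Set.mem_iUnion, exists_prop, not_or, not_exists, not_and,
    Finset.mem_coe, and_imp, forall_exists_index] at hm₀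
  obtain ⟨hm1, hm2, hm3⟩ := hm₀
  set b := φ m₀ with hb_def
  have hb : b ≠ 0 := fun h => hm1 (by simp [h])
  have hFb : G.F b = 0 := hφF m₀
  have hbb : G.T b b ≠ 0 := fun h => hm1 (by simp [h])
  -- it is not a T-point
  have hntb : ¬ IsTriple GK (LinearMap.ker (GK.T (ext K b) (ext K b))) := by
    intro htr
    have hbK := ext_ne_zero (K := K) hb
    refine hm3 (Submodule.span K {ext K b}) (finrank_span_singleton hbK)
      ((Submodule.span_singleton_le_iff_mem _ _).2 (LinearMap.mem_ker.2 (by rw [hc, hφH m₀, map_zero])))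
      (fun z hz hz0 => ?_) hm1 (Submodule.mem_span_singleton_self _)
    obtain ⟨c, rfl⟩ := Submodule.mem_span_singleton.1 hz
    have hc0 : c ≠ 0 := fun h => hz0 (by rw [h, zero_smul])
    refine ⟨hz0, by rw [GK.F_smul, hc.F, hFb, map_zero, mul_zero], fun h => hm1 ?_, ?_⟩
    · have h' := LinearMap.congr_fun h (ext K a)
      simp [hc b b a, hc0] at h'
      exact h'
    · have e : LinearMap.ker (GK.T (c • ext K b) (c • ext K b)) = LinearMap.ker (GK.T (ext K b) (ext K b)) :=
        Submodule.ext fun v => by simp [LinearMap.mem_ker, hc0]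
      rwa [e]
  obtain ⟨ψ, hψF, -, -, hψl⟩ := exists_param hc hb hFb hbb hntb
  -- no plane of the list is the tangent plane at `b`
  have hgood : ∀ l ∈ Λ, ∃ h, G.T b b h = 0 ∧ l h ≠ 0 := by
    intro l hl
    by_contra! hall
    have hk := ker_eq_ker (hΛ l hl) hbb hall
    by_cases hH : ∃ h, G.T a a h = 0 ∧ l h ≠ 0
    · obtain ⟨h, h1, h2⟩ := hH
      exact hm2 l hl h h1 h2 (hall b hFb)
    · push Not at hH
      exact hm1 (hk a (hH a hFa))
  obtain ⟨m, hm⟩ : ∃ m, m ∉ ⋃ l ∈ (↑Λ : Set ((Fin 4 → k) →ₗ[k] k)), {m | l (ψ m) = 0} :=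
    (Λ.finite_toSet.biUnion fun l hl => hψl l (hgood l hl)).exists_notMem
  simp only [Set.mem_iUnion, Set.mem_setOf_eq, exists_prop, not_exists, not_and, Finset.mem_coe] at hm
  exact ⟨ψ m, hψF m, hm⟩

omit [CharZero K] [IsAlgClosed K] in
/-- The case of a double point: projection from it. -/
theorem avoids_singular (F : MvPolynomial (Fin 4) k) (hF : F.IsHomogeneous 3) (hG : ∀ v, MvPolynomial.eval v F = G.F v)
    (hG' : ∀ v i, MvPolynomial.eval v (MvPolynomial.pderiv i F) = 3 * G.T v v (Pi.single i 1))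
    (hirr : Irreducible (MvPolynomial.map (algebraMap k K) F)) {a : Fin 4 → k} (haa : G.T a a = 0)
    (hcone : ¬ ∀ v, G.T v v a = 0) : Avoids G := by
  classical
  intro Λ hΛ
  let Q : MvPolynomial (Fin 4) k := ∑ i, MvPolynomial.C (a i) * MvPolynomial.pderiv i F
  have hQ : ∀ v, MvPolynomial.eval v Q = 3 * G.T v v a := fun v => by
    conv_rhs => rw [pi_eq_sum_univ' a, map_sum, Finset.mul_sum]
    simp only [Q, map_sum, map_mul, MvPolynomial.eval_C, hG', map_smul, smul_eq_mul]
    exact Finset.sum_congr rfl fun i _ => by ring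
  let P : ((Fin 4 → k) →ₗ[k] k) → MvPolynomial (Fin 4) k := fun l => Q * linForm l - MvPolynomial.C (l a) * F
  have hP : ∀ l v, MvPolynomial.eval v (P l) = 3 * G.T v v a * l v - l a * G.F v := fun l v => by
    simp [P, hQ, eval_linForm, hG]
  have hne : ∀ l ∈ Λ, P l ≠ 0 := by
    intro l hl h0
    by_cases hla : l a = 0
    · simp only [P, hla, map_zero, zero_mul, sub_zero, mul_eq_zero] at h0
      rcases h0 with h | h
      · exact hcone fun v => by simpa [h] using (hQ v).symm
      · exact hΛ l hl (LinearMap.ext fun v => by rw [← eval_linForm, h, map_zero, LinearMap.zero_apply])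
    · have hF' : MvPolynomial.map (algebraMap k K) F =
          MvPolynomial.map (algebraMap k K) (MvPolynomial.C (l a)⁻¹ * Q) *
            MvPolynomial.map (algebraMap k K) (linForm l) := by
        rw [← map_mul, mul_assoc, sub_eq_zero.1 h0, ← mul_assoc, ← map_mul, inv_mul_cancel₀ hla, map_one, one_mul]
      rcases hirr.isUnit_or_isUnit hF' with hu | hu
      · have h := hu.map (MvPolynomial.eval (fun i => algebraMap k K ((0 : Fin 4 → k) i)))
        rw [MvPolynomial.eval_map, show (fun i => algebraMap k K ((0 : Fin 4 → k) i)) =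
          algebraMap k K ∘ (0 : Fin 4 → k) from rfl, ← MvPolynomial.eval₂_comp, map_mul (MvPolynomial.eval _), hQ] at h
        simp at h
      · have h := hu.map (MvPolynomial.eval (fun i => algebraMap k K ((0 : Fin 4 → k) i)))
        rw [MvPolynomial.eval_map, show (fun i => algebraMap k K ((0 : Fin 4 → k) i)) =
          algebraMap k K ∘ (0 : Fin 4 → k) from rfl, ← MvPolynomial.eval₂_comp, eval_linForm] at h
        simp at h
  obtain ⟨x, hx⟩ : ∃ x, MvPolynomial.eval x (∏ l ∈ Λ, P l) ≠ 0 := by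
    by_contra! h
    exact Finset.prod_ne_zero_iff.2 hne (MvPolynomial.funext fun v => by rw [h, map_zero])
  simp only [map_prod, Finset.prod_ne_zero_iff, hP] at hx
  refine ⟨(3 * G.T x x a) • x + (-G.F x) • a, ?_, fun l hl => by
    simpa [sub_eq_add_neg, mul_comm (G.F x)] using hx l hl⟩
  rw [G.F_comb₂, show G.T x a a = 0 by rw [G.symm₁₃, haa]; simp, show G.F a = 0 by simp [Cubic.F, haa]]
  ring

omit [CharZero K] [IsAlgClosed K] in
/-- Five points in general position. -/
theorem five_points (hav : Avoids G) {a : Fin 4 → k} (ha : a ≠ 0) (hFa : G.F a = 0) :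
    ∃ p : Fin 5 → (Fin 4 → k), p 0 = a ∧ (∀ j, G.F (p j) = 0) ∧
      ∀ j : Fin 5, LinearIndependent k (fun i : Fin 4 => p (j.succAbove i)) := by
  classical
  have step : ∀ S : Submodule k (Fin 4 → k), S < ⊤ → ∃ p, G.F p = 0 ∧ p ∉ S := by
    intro S hS
    obtain ⟨l, hl, hle⟩ := S.exists_le_ker_of_lt_top hS
    obtain ⟨p, hp, hlp⟩ := hav {l} (by simpa using hl)
    exact ⟨p, hp, fun h => hlp l (by simp) (LinearMap.mem_ker.1 (hle h))⟩
  have lt_top : ∀ {n} (f : Fin n → (Fin 4 → k)), n < 4 → Submodule.span k (Set.range f) < ⊤ := fun f hn =>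
    lt_top_iff_ne_top.2 fun h => by
      have := (finrank_range_le_card f : Set.finrank k (Set.range f) ≤ _)
      rw [Set.finrank, h, finrank_top, Module.finrank_fin_fun, Fintype.card_fin] at this
      omega
  obtain ⟨p₁, h₁, n₁⟩ := step _ (lt_top ![a] (by norm_num))
  obtain ⟨p₂, h₂, n₂⟩ := step _ (lt_top ![p₁, a] (by norm_num))
  obtain ⟨p₃, h₃, n₃⟩ := step _ (lt_top ![p₂, p₁, a] (by norm_num))
  have hli : LinearIndependent k ![p₃, p₂, p₁, a] := by
    refine linearIndependent_fin_cons.2 ⟨linearIndependent_fin_cons.2 ⟨linearIndependent_fin_cons.2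
      ⟨?_, n₁⟩, n₂⟩, n₃⟩
    exact linearIndependent_fin_cons.2 ⟨linearIndependent_empty_type, by simpa using ha⟩
  let B := basisOfLinearIndependentOfCardEqFinrank hli (by simp)
  obtain ⟨p₄, h₄, n₄⟩ := hav (Finset.univ.image B.coord) (fun l hl => by
    obtain ⟨i, -, rfl⟩ := Finset.mem_image.1 hl
    exact fun h => one_ne_zero (α := k) (by simpa [B.coord_apply] using LinearMap.congr_fun h (B i)))
  have n₄ : ∀ i, B.coord i p₄ ≠ 0 := fun i => n₄ _ (Finset.mem_image_of_mem _ (Finset.mem_univ i))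
  refine ⟨![a, p₁, p₂, p₃, p₄], rfl, fun j => by fin_cases j <;> assumption, fun j => ?_⟩
  set p : Fin 5 → (Fin 4 → k) := ![a, p₁, p₂, p₃, p₄]
  have hc : ∀ i j, B.coord i (B j) = if j = i then 1 else 0 := fun i j => by simp [B.coord_apply, Finsupp.single_apply]
  have e0 : a = B 3 := by simp [B]
  have e1 : p₁ = B 2 := by simp [B]
  have e2 : p₂ = B 1 := by simp [B]
  have e3 : p₃ = B 0 := by simp [B]
  rw [Fintype.linearIndependent_iff]
  intro g hg
  have hg' : ∀ i, ∑ x, g x * B.coord i (p (j.succAbove x)) = 0 := fun i => by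
    simpa [map_sum] using congrArg (B.coord i) hg
  have q0 := hg' 0; have q1 := hg' 1; have q2 := hg' 2; have q3 := hg' 3
  have m0 := n₄ 0; have m1 := n₄ 1; have m2 := n₄ 2; have m3 := n₄ 3
  intro i
  fin_cases j <;> simp [Fin.sum_univ_four, Fin.succAbove, p] at q0 q1 q2 q3 <;>
    simp only [e0, e1, e2, e3, hc, Fin.reduceEq, ↓reduceIte, mul_one, mul_zero, zero_add, add_zero] at q0 q1 q2 q3 <;>
    fin_cases i <;> simp_all

/-- Rational points avoid planes once there is a rational point which is not a T-point. -/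
theorem exists_five (F : MvPolynomial (Fin 4) k) (hF : F.IsHomogeneous 3)
    (hG : ∀ v, MvPolynomial.eval v F = G.F v)
    (hG' : ∀ v i, MvPolynomial.eval v (MvPolynomial.pderiv i F) = 3 * G.T v v (Pi.single i 1))
    (hGK : ∀ v, MvPolynomial.eval v (MvPolynomial.map (algebraMap k K) F) = GK.F v) (hc : Compat G GK)
    (hirr : Irreducible (MvPolynomial.map (algebraMap k K) F)) {a : Fin 4 → k} (ha : a ≠ 0) (hFa : G.F a = 0)
    (hcone : ¬ ∀ v, G.T v v a = 0)
    (hnt : G.T a a ≠ 0 → ¬ IsTriple GK (LinearMap.ker (GK.T (ext K a) (ext K a)))) :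
    ∃ p : Fin 5 → (Fin 4 → k), p 0 = a ∧ (∀ j, G.F (p j) = 0) ∧
      ∀ j : Fin 5, LinearIndependent k (fun i : Fin 4 => p (j.succAbove i)) := by
  refine five_points ?_ ha hFa
  rcases eq_or_ne (G.T a a) 0 with haa | haa
  · exact avoids_singular F hF hG hG' hirr haa hcone
  · exact avoids_smooth hc (noPlane_of_irreducible _ hGK hirr) hFa haa (hnt haa)

/-- The hypothesis of not being a T-point, for polynomials. -/
theorem not_isTriple_of_not_mem {F : MvPolynomial (Fin 4) K}
    (hGK : ∀ v, MvPolynomial.eval v F = GK.F v) {b : Fin 4 → K} (hb : GK.T b b ≠ 0)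
    (hT : ¬ ∃ L₁ L₂ L₃ : MvPolynomial (Fin 4) K, L₁.IsHomogeneous 1 ∧ L₂.IsHomogeneous 1 ∧ L₃.IsHomogeneous 1 ∧
      F - L₁ * L₂ * L₃ ∈ Ideal.span {linForm ((3 : K) • GK.T b b)}) :
    ¬ IsTriple GK (LinearMap.ker (GK.T b b)) := by
  rintro ⟨l₁, l₂, l₃, hl⟩
  refine hT ⟨linForm l₁, linForm l₂, linForm l₃, isHomogeneous_linForm _, isHomogeneous_linForm _,
    isHomogeneous_linForm _, ?_⟩
  obtain ⟨v, hv⟩ := LinearMap.surjective (smul_ne_zero (by norm_num : (3 : K) ≠ 0) hb) 1
  refine mem_span_of_vanish _ v hv _ fun x hx => ?_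
  rw [map_sub, map_mul, map_mul, eval_linForm, eval_linForm, eval_linForm, hGK, hl x ?_, sub_self]
  simpa using hx

end Avoid

end

end Groth.Agent.CubicLib
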