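import Groth.Agent.CubicLib.LinForm

/-!
# A linear Pfaffian representation from five points in general position

In coordinates where the five points are the coordinate points and `(1,1,1,1)` the cubic is a combination of the
five quadrics `xᵢxⱼ - x₂x₃`, which are the Pfaffians of an explicit alternating `5 × 5` matrix of linear forms.
-/

namespace Groth.Agent.CubicLib

open Module

universe u

noncomputable section

/-- the bordered matrix -/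
def pfMat {R : Type u} [CommRing R] (l : Fin 5 → R) (x : Fin 4 → R) : Matrix (Fin 6) (Fin 6) R :=
  !![0, l 0, l 1, l 2, l 3, l 4;
     -l 0, 0, x 3, -x 2, -x 3, x 2;
     -l 1, -x 3, 0, x 1, x 3, 0;
     -l 2, x 2, -x 1, 0, 0, -x 2;
     -l 3, x 3, -x 3, 0, 0, -x 0;
     -l 4, -x 2, 0, x 2, x 0, 0]

theorem det_pfMat {R : Type u} [CommRing R] (l : Fin 5 → R) (x : Fin 4 → R) :
    (pfMat l x).det = (l 0 * (x 0 * x 1 - x 2 * x 3) + l 1 * (x 0 * x 2 - x 2 * x 3) + l 2 * (x 0 * x 3 - x 2 * x 3) +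
      l 3 * (x 1 * x 2 - x 2 * x 3) + l 4 * (x 1 * x 3 - x 2 * x 3)) ^ 2 := by
  simp [pfMat, Matrix.det_succ_row_zero, Fin.sum_univ_succ, Fin.succAbove]
  ring

theorem transpose_pfMat {R : Type u} [CommRing R] (l : Fin 5 → R) (x : Fin 4 → R) :
    (pfMat l x).transpose = -pfMat l x ∧ ∀ i, pfMat l x i i = 0 := by
  constructor
  · ext i j; fin_cases i <;> fin_cases j <;> simp [pfMat]
  · intro i; fin_cases i <;> simp [pfMat]

open MvPolynomial in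
theorem isHomogeneous_pfMat {R : Type u} [CommRing R] {σ : Type} (l : Fin 5 → MvPolynomial σ R)
    (x : Fin 4 → MvPolynomial σ R) (hl : ∀ i, (l i).IsHomogeneous 1) (hx : ∀ i, (x i).IsHomogeneous 1)
    (i j : Fin 6) : (pfMat l x i j).IsHomogeneous 1 := by
  fin_cases i <;> fin_cases j <;> simp [pfMat] <;>
    first | exact hl _ | exact (hl _).neg | exact hx _ | exact (hx _).neg | exact isHomogeneous_zero _ _ _

variable {k : Type u} [Field k]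

theorem Cubic.F_comb₄ (G : Cubic k (Fin 4 → k)) (a b c d : Fin 4 → k) (x y z w : k) :
    G.F (x • a + y • b + z • c + w • d) =
      x ^ 3 * G.F a + y ^ 3 * G.F b + z ^ 3 * G.F c + w ^ 3 * G.F d
        + 3 * x ^ 2 * y * G.T a a b + 3 * x ^ 2 * z * G.T a a c + 3 * x ^ 2 * w * G.T a a d
        + 3 * x * y ^ 2 * G.T a b b + 3 * y ^ 2 * z * G.T b b c + 3 * y ^ 2 * w * G.T b b d
        + 3 * x * z ^ 2 * G.T a c c + 3 * y * z ^ 2 * G.T b c c + 3 * z ^ 2 * w * G.T c c d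
        + 3 * x * w ^ 2 * G.T a d d + 3 * y * w ^ 2 * G.T b d d + 3 * z * w ^ 2 * G.T c d d
        + 6 * x * y * z * G.T a b c + 6 * x * y * w * G.T a b d + 6 * x * z * w * G.T a c d
        + 6 * y * z * w * G.T b c d := by
  rw [G.F_add_smul (x • a + y • b + z • c) d w, G.F_comb₃]
  simp only [map_add, map_smul, LinearMap.add_apply, LinearMap.smul_apply, smul_eq_mul]
  rw [G.symm₁₂ b a d, G.symm₁₂ c a d, G.symm₁₂ c b d]
  ring

variable [CharZero k]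

open MvPolynomial in
/-- The representation. -/
theorem exists_pfaffian (F : MvPolynomial (Fin 4) k) (hF : F.IsHomogeneous 3) (p : Fin 5 → (Fin 4 → k))
    (hp : ∀ j, eval (p j) F = 0) (hli : ∀ j : Fin 5, LinearIndependent k (fun i : Fin 4 => p (j.succAbove i))) :
    ∃ M : Matrix (Fin 6) (Fin 6) (MvPolynomial (Fin 4) k), (∀ i j, (M i j).IsHomogeneous 1) ∧
      M.transpose = -M ∧ (∀ i, M i i = 0) ∧ ∃ c : k, c ≠ 0 ∧ M.det = C c * F ^ 2 := by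
  classical
  obtain ⟨G, hG, -, -⟩ := exists_cubic F hF
  let B₀ : Basis (Fin 4) k (Fin 4 → k) := basisOfLinearIndependentOfCardEqFinrank (hli 4) (by simp)
  have hB₀ : ∀ i, B₀ i = p ((4 : Fin 5).succAbove i) := fun i => by simp [B₀]
  -- the fifth point has no vanishing coordinate
  have hu : ∀ i, B₀.repr (p 4) i ≠ 0 := by
    intro i h
    have hs := B₀.sum_repr (p 4)
    have hmem : p 4 ∈ Submodule.span k (B₀ '' {i}ᶜ) := by
      rw [← hs]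
      refine Submodule.sum_mem _ fun j _ => ?_
      rcases eq_or_ne j i with rfl | hj
      · rw [h, zero_smul]; exact zero_mem _
      · exact Submodule.smul_mem _ _ (Submodule.subset_span ⟨j, hj, rfl⟩)
    set j₀ : Fin 5 := (4 : Fin 5).succAbove i
    obtain ⟨i₄, hi₄⟩ := Fin.exists_succAbove_eq (show (4 : Fin 5) ≠ j₀ from (Fin.succAbove_ne _ _).symm)
    refine (hli j₀).notMem_span_image (s := {i₄}ᶜ) (x := i₄) (fun h => h rfl) ?_
    rw [hi₄]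
    refine Submodule.span_mono ?_ hmem
    rintro _ ⟨j, hj, rfl⟩
    obtain ⟨j', hj'⟩ := Fin.exists_succAbove_eq (show (4 : Fin 5).succAbove j ≠ j₀ from
      fun he => hj (Fin.succAbove_right_injective he))
    refine ⟨j', fun he => ?_, by rw [hB₀]; exact congrArg p hj'⟩
    rw [he, hi₄] at hj'
    exact Fin.succAbove_ne _ _ hj'.symm
  let B : Basis (Fin 4) k (Fin 4 → k) := B₀.isUnitSMul fun i => isUnit_iff_ne_zero.2 (hu i)
  have hB : ∀ i, B i = B₀.repr (p 4) i • p ((4 : Fin 5).succAbove i) := fun i => by rw [Basis.isUnitSMul_apply, hB₀]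
  have hB0 : ∀ i, G.F (B i) = 0 := fun i => by rw [hB, G.F_smul, ← hG, hp, mul_zero]
  have hone : G.F ((1 : k) • B 0 + (1 : k) • B 1 + (1 : k) • B 2 + (1 : k) • B 3) = 0 := by
    have e : (1 : k) • B 0 + (1 : k) • B 1 + (1 : k) • B 2 + (1 : k) • B 3 = p 4 := by
      conv_rhs => rw [← B₀.sum_repr (p 4)]
      simp [Fin.sum_univ_four, hB, hB₀]
    rw [e, ← hG, hp]
  rw [G.F_comb₄, hB0, hB0, hB0, hB0] at hone
  let Y : Fin 4 → MvPolynomial (Fin 4) k := fun i => linForm (B.coord i)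
  let a₀₀₁ := 3 * G.T (B 0) (B 0) (B 1)
  let a₀₀₂ := 3 * G.T (B 0) (B 0) (B 2)
  let a₀₀₃ := 3 * G.T (B 0) (B 0) (B 3)
  let a₁₁₀ := 3 * G.T (B 0) (B 1) (B 1)
  let a₁₁₂ := 3 * G.T (B 1) (B 1) (B 2)
  let a₁₁₃ := 3 * G.T (B 1) (B 1) (B 3)
  let a₂₂₀ := 3 * G.T (B 0) (B 2) (B 2)
  let a₂₂₁ := 3 * G.T (B 1) (B 2) (B 2)
  let a₂₂₃ := 3 * G.T (B 2) (B 2) (B 3)
  let a₃₃₀ := 3 * G.T (B 0) (B 3) (B 3)
  let a₃₃₁ := 3 * G.T (B 1) (B 3) (B 3)
  let a₃₃₂ := 3 * G.T (B 2) (B 3) (B 3)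
  let a₀₁₂ := 6 * G.T (B 0) (B 1) (B 2)
  let a₀₁₃ := 6 * G.T (B 0) (B 1) (B 3)
  let a₀₂₃ := 6 * G.T (B 0) (B 2) (B 3)
  let a₁₂₃ := 6 * G.T (B 1) (B 2) (B 3)
  let s₁ := a₁₁₀ + a₁₁₂ + a₁₁₃
  let s₂ := a₂₂₀ + a₂₂₁ + a₀₁₂ + a₂₂₃
  let s₃ := a₃₃₀ + a₃₃₁ + a₀₁₃ + a₀₂₃ + a₁₂₃ + a₃₃₂
  let co : Fin 5 → Fin 4 → k :=
    ![![a₀₀₁, a₁₁₀, a₀₁₂ - s₂, a₀₁₃ - s₃], ![a₀₀₂, s₂, a₂₂₀, a₀₂₃ - s₁ - s₂ - s₃], ![a₀₀₃, s₃, 0, a₃₃₀],
      ![0, a₁₁₂, a₂₂₁, a₁₂₃ + s₁ + s₂ + s₃], ![0, a₁₁₃, 0, a₃₃₁]]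
  let l : Fin 5 → MvPolynomial (Fin 4) k := fun j => ∑ i, C (co j i) * Y i
  have hY : ∀ i, (Y i).IsHomogeneous 1 := fun i => isHomogeneous_linForm _
  have hl : ∀ j, (l j).IsHomogeneous 1 := fun j => IsHomogeneous.sum _ _ _ fun i _ => (hY i).C_mul _
  refine ⟨pfMat l Y, isHomogeneous_pfMat l Y hl hY, (transpose_pfMat l Y).1, (transpose_pfMat l Y).2, 1,
    one_ne_zero, ?_⟩
  rw [det_pfMat, C_1, one_mul]
  congr 1
  refine MvPolynomial.funext fun v => ?_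
  have hv : v = B.coord 0 v • B 0 + B.coord 1 v • B 1 + B.coord 2 v • B 2 + B.coord 3 v • B 3 := by
    conv_lhs => rw [← B.sum_repr v, Fin.sum_univ_four]
    simp [B.coord_apply]
  have hFv : eval v F = G.F (B.coord 0 v • B 0 + B.coord 1 v • B 1 + B.coord 2 v • B 2 + B.coord 3 v • B 3) := by
    rw [← hv, hG]
  rw [hFv, G.F_comb₄, hB0, hB0, hB0, hB0]
  simp only [map_add, map_sub, map_mul, eval_C, Y, eval_linForm, l, Fin.sum_univ_four, co, Matrix.cons_val]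
  simp only [s₁, s₂, s₃, a₀₀₁, a₀₀₂, a₀₀₃, a₁₁₀, a₁₁₂, a₁₁₃, a₂₂₀, a₂₂₁, a₂₂₃, a₃₃₀, a₃₃₁, a₃₃₂,
    a₀₁₂, a₀₁₃, a₀₂₃, a₁₂₃]
  linear_combination -(B.coord 0 v * B.coord 2 v * B.coord 3 v) * hone

end

end Groth.Agent.CubicLib
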