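import Groth.Agent.CubicLib.SmallDegree

/-!
# Pfaffian representations over extensions of degree at most three
-/

namespace Groth.Agent.CubicLib

open Module

universe u v w

noncomputable section

variable {K : Type u} [Field K] [CharZero K] [IsAlgClosed K] {G : Cubic K (Fin 4 → K)}

section Main

variable {k : Type u} [Field k] [CharZero k] [Algebra k K] [IsGalois k K]

omit [IsGalois k K] in
/-- Over a field of definition of a point which is not a T-point. -/
theorem pfaffian_over {E : Type w} [Field E] [CharZero E] [Algebra k E] [Algebra E K] [IsScalarTower k E K]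
    (F : MvPolynomial (Fin 4) k) (hF : F.IsHomogeneous 3)
    (hirr : Irreducible (MvPolynomial.map (algebraMap k K) F))
    (hGK : ∀ v, MvPolynomial.eval v (MvPolynomial.map (algebraMap k K) F) = G.F v)
    (hGK' : ∀ v i, MvPolynomial.eval v (MvPolynomial.pderiv i (MvPolynomial.map (algebraMap k K) F)) =
      3 * G.T v v (Pi.single i 1))
    (hcone : ∀ p, p ≠ 0 → G.T p ≠ 0) {a : Fin 4 → E} (ha : a ≠ 0) (hFa : G.F (ext K a) = 0)
    (hnt : G.T (ext K a) (ext K a) ≠ 0 → ¬ IsTriple G (LinearMap.ker (G.T (ext K a) (ext K a)))) :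
    ∃ M : Matrix (Fin 6) (Fin 6) (MvPolynomial (Fin 4) E), (∀ i j, (M i j).IsHomogeneous 1) ∧
      M.transpose = -M ∧ (∀ i, M i i = 0) ∧
      ∃ c : E, c ≠ 0 ∧ M.det = MvPolynomial.C c * (MvPolynomial.map (algebraMap k E) F) ^ 2 := by
  classical
  set FE := MvPolynomial.map (algebraMap k E) F
  have hmap : MvPolynomial.map (algebraMap E K) FE = MvPolynomial.map (algebraMap k K) F := by
    rw [MvPolynomial.map_map, ← IsScalarTower.algebraMap_eq]
  obtain ⟨GE, hGE, hGE', -⟩ := exists_cubic FE (hF.map _)
  have hc : Compat GE G := compat_of_map hGE' (by rw [hmap]; exact hGK')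
  have hcE : ¬ ∀ v, GE.T v v a = 0 := by
    intro h
    refine hcone _ (ext_ne_zero (K := K) ha) ?_
    have h2 : ∀ x y, GE.T x y a = 0 := fun x y => by
      have h' := h (x + y)
      simp only [map_add, LinearMap.add_apply, h x, h y, GE.symm₁₂ y x a] at h'
      linear_combination (1 / 2 : E) * h'
    refine LinearMap.ext fun x => LinearMap.ext fun y => ?_
    rw [pi_eq_sum_univ' x, pi_eq_sum_univ' y]
    simp only [map_sum, map_smul, LinearMap.sum_apply, LinearMap.smul_apply, smul_eq_mul, LinearMap.zero_apply,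
      mul_zero, Finset.sum_const_zero]
    refine Finset.sum_eq_zero fun i _ => ?_
    refine mul_eq_zero_of_right _ (Finset.sum_eq_zero fun j _ => ?_)
    rw [← ext_single (k := E) (K := K) i, ← ext_single (k := E) (K := K) j, hc, GE.symm₁₃, h2, map_zero, mul_zero]
  obtain ⟨p, -, hpF, hli⟩ := exists_five (K := K) (GK := G) FE (hF.map _) hGE hGE'
    (fun v => by rw [hmap]; exact hGK v) hc (by rw [hmap]; exact hirr) ha
    ((algebraMap E K).injective (by rw [← hc.F, hFa, map_zero])) hcE
    (fun haa => hnt fun h0 => haa (LinearMap.ext fun v => (algebraMap E K).injective (by rw [← hc, h0]; simp)))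
  exact exists_pfaffian FE (hF.map _) p (fun j => (hGE _).trans (hpF j)) hli

/-- A cubic polynomial such that a root in any finite extension gives a representation. -/
theorem exists_cubic_resolvent (F : MvPolynomial (Fin 4) k) (hF : F.IsHomogeneous 3)
    (hirr : Irreducible (MvPolynomial.map (algebraMap k K) F))
    (hcone : ¬ ∃ v : Fin 4 → k, v ≠ 0 ∧ ∑ i : Fin 4, v i • MvPolynomial.pderiv i F = 0) :
    ∃ f : Polynomial k, f.natDegree = 3 ∧
      ∀ (E : Type w) [Field E] [Algebra k E] [FiniteDimensional k E], (∃ t : E, Polynomial.aeval t f = 0) →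
        ∃ M : Matrix (Fin 6) (Fin 6) (MvPolynomial (Fin 4) E), (∀ i j, (M i j).IsHomogeneous 1) ∧
          M.transpose = -M ∧ (∀ i, M i i = 0) ∧
          ∃ c : E, c ≠ 0 ∧ M.det = MvPolynomial.C c * (MvPolynomial.map (algebraMap k E) F) ^ 2 := by
  classical
  obtain ⟨G₀, hG, hG', -⟩ := exists_cubic F hF
  obtain ⟨G, hGK, hGK', -⟩ := exists_cubic _ (hF.map (algebraMap k K))
  have hc : Compat G₀ G := compat_of_map hG' hGK'
  have hcone₀ : ∀ p, p ≠ 0 → G₀.T p ≠ 0 := fun p hp h => hcone ⟨p, hp, MvPolynomial.funext fun v => by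
    have h' : 3 * G₀.T v v p = 0 := by rw [G₀.symm₁₃, h]; simp
    rw [pi_eq_sum_univ' p, map_sum, Finset.mul_sum] at h'
    simp only [map_sum, MvPolynomial.smul_eval, hG', map_zero]
    rw [← h']
    exact Finset.sum_congr rfl fun i _ => by simp [mul_left_comm]⟩
  have hconeK := cone_ext hc hcone₀
  have hnp : NoPlane G := noPlane_of_irreducible _ hGK hirr
  by_cases hfin : (singRays G).Finite
  · have hlines := finite_lines hnp hconeK hfin
    choose! μ hμ hUμ using fun (U : Submodule K (Fin 4 → K)) (hU : IsLine G U) =>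
      U.exists_le_ker_of_lt_top (lt_top_iff_ne_top.2 fun h => by
        have := hU.1; rw [h, finrank_top, Module.finrank_fin_fun] at this; omega)
    let Λ : Finset ((Fin 4 → K) →ₗ[K] K) := insert (LinearMap.proj 0) (hlines.toFinset.image μ)
    have hΛ : ∀ l ∈ Λ, l ≠ 0 := by
      intro l hl
      rcases Finset.mem_insert.1 hl with rfl | hl
      · exact fun h => one_ne_zero (α := K) (by simpa using LinearMap.congr_fun h (Pi.single 0 1))
      · obtain ⟨U, hU, rfl⟩ := Finset.mem_image.1 hl
        exact hμ U (hlines.mem_toFinset.1 hU)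
    set FK := MvPolynomial.map (algebraMap k K) F
    obtain ⟨o, ho⟩ := exists_eval_ne_zero (k := k) (FK * ∏ l ∈ Λ, linForm l) (mul_ne_zero hirr.ne_zero
      (Finset.prod_ne_zero_iff.2 fun l hl h => hΛ l hl (LinearMap.ext fun v => by
        rw [← eval_linForm, h, map_zero, LinearMap.zero_apply])))
    rw [map_mul, map_prod, mul_ne_zero_iff, Finset.prod_ne_zero_iff, hGK] at ho
    simp only [eval_linForm] at ho
    let R : ((Fin 4 → K) →ₗ[K] K) → MvPolynomial (Fin 4) K := fun l =>
      MvPolynomial.aeval (fun i => MvPolynomial.C (l (ext K o)) * MvPolynomial.X i -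
        linForm l * MvPolynomial.C (ext K o i)) FK
    have hR : ∀ l v, MvPolynomial.eval v (R l) = G.F (l (ext K o) • v - l v • ext K o) := by
      intro l v
      rw [← hGK]
      have : (MvPolynomial.eval v).comp (MvPolynomial.aeval (fun i => MvPolynomial.C (l (ext K o)) * MvPolynomial.X i -
          linForm l * MvPolynomial.C (ext K o i))).toRingHom = MvPolynomial.eval (l (ext K o) • v - l v • ext K o) :=
        MvPolynomial.ringHom_ext (fun c => by simp) fun i => by simp [eval_linForm]
      exact RingHom.congr_fun this FK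
    obtain ⟨x, hx⟩ := exists_eval_ne_zero (k := k) (∏ l ∈ Λ, R l) (Finset.prod_ne_zero_iff.2 fun l hl h => by
      obtain ⟨u, hu, hFu⟩ := hnp _ (finrank_ker_three (hΛ l hl))
      have := hR l u
      rw [h, map_zero, LinearMap.mem_ker.1 hu, zero_smul, sub_zero, G.F_smul] at this
      exact hFu ((mul_eq_zero.1 this.symm).resolve_left (pow_ne_zero _ (ho.2 l hl))))
    rw [map_prod, Finset.prod_ne_zero_iff] at hx
    simp only [hR] at hx
    have ho' : G₀.F o ≠ 0 := fun h => ho.1 (by rw [hc.F, h, map_zero])
    refine ⟨Polynomial.C (G₀.F o) * Polynomial.X ^ 3 + Polynomial.C (3 * G₀.T x o o) * Polynomial.X ^ 2 +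
      Polynomial.C (3 * G₀.T x x o) * Polynomial.X + Polynomial.C (G₀.F x), by compute_degree!, ?_⟩
    intro E _ _ _ ⟨t, ht⟩
    let σ : E →ₐ[k] K := IsAlgClosed.lift
    letI : Algebra E K := σ.toRingHom.toAlgebra
    haveI : IsScalarTower k E K := IsScalarTower.of_algebraMap_eq fun c => (σ.commutes c).symm
    haveI : CharZero E := charZero_of_injective_algebraMap (algebraMap k E).injective
    let a : Fin 4 → E := fun i => algebraMap k E (x i) + t * algebraMap k E (o i)
    have hea : ext K a = ext K x + σ t • ext K o := by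
      funext i
      show σ (a i) = _
      simp [a, ext]
    have hFa : G.F (ext K a) = 0 := by
      rw [hea, G.F_add_smul, hc.F, hc.F, hc, hc]
      have h := congrArg σ ht
      rw [map_zero, ← Polynomial.aeval_algHom_apply] at h
      simp [map_ofNat] at h
      linear_combination h
    have hl : ∀ l ∈ Λ, l (ext K a) ≠ 0 := by
      intro l hl h
      rw [hea, map_add, map_smul, smul_eq_mul] at h
      refine hx l hl ?_
      have e : l (ext K o) • ext K x - l (ext K x) • ext K o = l (ext K o) • ext K a := by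
        rw [hea, show l (ext K x) = -(σ t * l (ext K o)) by linear_combination h]
        module
      rw [e, G.F_smul, hFa, mul_zero]
    have hproj := hl _ (Finset.mem_insert_self _ _)
    refine pfaffian_over F hF hirr hGK hGK' hconeK (fun h => hproj (by rw [h]; simp [ext])) hFa fun haa htr => ?_
    obtain ⟨K₁, K₂, K₃, -, hln, hsec, -⟩ := triple_lines hnp (finrank_ker_three haa) htr
    obtain ⟨U, hU, hmem⟩ : ∃ U, IsLine G U ∧ ext K a ∈ U := by
      rcases hsec _ (LinearMap.mem_ker.2 hFa) hFa with h | h | h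
      · exact ⟨K₁, hln.1, h⟩
      · exact ⟨K₂, hln.2.1, h⟩
      · exact ⟨K₃, hln.2.2, h⟩
    exact hl _ (Finset.mem_insert_of_mem (Finset.mem_image_of_mem μ (hlines.mem_toFinset.2 hU)))
      (LinearMap.mem_ker.1 (hUμ U hU hmem))
  · obtain ⟨a₀, ha₀, hTa⟩ := exists_rational_singular F hGK' hnp hfin
    refine ⟨Polynomial.X ^ 3, Polynomial.natDegree_X_pow 3, ?_⟩
    intro E _ _ _ _
    let σ : E →ₐ[k] K := IsAlgClosed.lift
    letI : Algebra E K := σ.toRingHom.toAlgebra
    haveI : IsScalarTower k E K := IsScalarTower.of_algebraMap_eq fun c => (σ.commutes c).symm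
    haveI : CharZero E := charZero_of_injective_algebraMap (algebraMap k E).injective
    have hea : ext K (ext E a₀) = ext K a₀ := funext fun i => (IsScalarTower.algebraMap_apply k E K (a₀ i)).symm
    refine pfaffian_over F hF hirr hGK hGK' hconeK (ext_ne_zero ha₀) ?_ fun h => absurd ?_ h
    · rw [hea, Cubic.F, hTa]; rfl
    · rw [hea]; exact hTa

end Main

end

end Groth.Agent.CubicLib
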