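import Groth.Agent.CubicLib.Avoid
import Groth.Agent.CubicLib.Pfaff

/-!
# A point of degree at most three which is not a T-point

With finitely many singular points there are finitely many lines, and a rational line meets the surface off
them; with infinitely many singular points the double line has a rational point.
-/

namespace Groth.Agent.CubicLib

open Module

universe u v w

noncomputable section

variable {K : Type u} [Field K] [CharZero K] [IsAlgClosed K] {G : Cubic K (Fin 4 → K)}

/-- the singular points, as rays -/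
def singRays (G : Cubic K (Fin 4 → K)) : Set (Submodule K (Fin 4 → K)) :=
  {U | finrank K U = 1 ∧ ∀ b ∈ U, G.T b b = 0}

omit [CharZero K] [IsAlgClosed K] in
theorem span_mem_singRays {b : Fin 4 → K} (hb : b ≠ 0) (h : G.T b b = 0) :
    Submodule.span K {b} ∈ singRays G := by
  refine ⟨finrank_span_singleton hb, fun z hz => ?_⟩
  obtain ⟨c, rfl⟩ := Submodule.mem_span_singleton.1 hz
  simp [h]

omit [CharZero K] [IsAlgClosed K] in
theorem functional_irreducible (hnp : NoPlane G) (L : (Fin 4 → K) →ₗ[K] K)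
    (B : (Fin 4 → K) →ₗ[K] (Fin 4 → K) →ₗ[K] K) : ¬ ∀ v, G.F v = L v * B v v := by
  intro h
  obtain ⟨l, hl, hle⟩ : ∃ l : (Fin 4 → K) →ₗ[K] K, l ≠ 0 ∧ LinearMap.ker l ≤ LinearMap.ker L := by
    rcases eq_or_ne L 0 with rfl | hL
    · exact ⟨LinearMap.proj 0, fun h => one_ne_zero (α := K)
        (by simpa using LinearMap.congr_fun h (Pi.single 0 1)), by simp⟩
    · exact ⟨L, hL, le_rfl⟩
  obtain ⟨u, hu, hFu⟩ := hnp _ (finrank_ker_three hl)
  exact hFu (by rw [h, LinearMap.mem_ker.1 (hle hu), zero_mul])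

/-- finitely many lines through a singular point -/
theorem finite_lines_through (hnp : NoPlane G) (hcone : ∀ p, p ≠ 0 → G.T p ≠ 0) {U : Submodule K (Fin 4 → K)}
    (hU : U ∈ singRays G) : {N | IsLine G N ∧ U ≤ N}.Finite := by
  obtain ⟨a, ha, ha0, rfl⟩ := span_eq_of_finrank_one hU.1
  refine (Set.finite_of_encard_le_coe (k := 6) (lines_singular (functional_irreducible hnp) ha0
    (fun w => by rw [hU.2 a ha, LinearMap.zero_apply]) (hcone a ha0))).subset ?_
  exact fun N ⟨hN, hle⟩ => ⟨(Submodule.span_singleton_le_iff_mem a N).1 hle, hN.1, hN.2⟩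

namespace LineData

variable (D : LineData G)

omit [CharZero K] [IsAlgClosed K] in
theorem plane_wv_injective {s s' : K} (he : D.plane (D.wv s) = D.plane (D.wv s')) : s = s' := by
  obtain ⟨v, hv⟩ : D.wv s ∈ D.plane (D.wv s') := he ▸ ⟨![0, 0, 1], by show D.pt _ _ = _; simp [pt]⟩
  have h := Fintype.linearIndependent_iff.1 D.bas.linearIndependent ![v 0, v 1, v 2 * s' - s, v 2 - 1] (by
    have : D.pt (D.wv s') v - D.wv s = 0 := sub_eq_zero.2 hv
    simp [Fin.sum_univ_four]; rw [← this, pt, wv, wv]; module)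
  have a2 : v 2 * s' - s = 0 := h 2
  have a3 : v 2 - 1 = 0 := h 3
  linear_combination s' * a3 - a2

/-- In a totally degenerate pencil every plane carries a singular point. -/
theorem singular_of_disc_eq_zero (hd : D.disc = 0) (s : K) :
    ∃ v, v ≠ 0 ∧ (D.M (D.wv s)).mulVec v = 0 ∧ G.T (D.pt (D.wv s) v) (D.pt (D.wv s) v) = 0 := by
  have hs : (D.M (D.wv s)).det = 0 := by rw [← D.disc_eval, hd, Polynomial.eval_zero]
  obtain ⟨v, hv, hMv⟩ := exists_kernel hs
  obtain ⟨P, hPd, hP⟩ := exists_completion hv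
  obtain ⟨hz, hsy⟩ := degenerate_form hMv P hP
  set w := D.wv s with hwdef
  -- a kernel vector with vanishing normal derivative is singular
  have hsing : ∀ u, (D.M w).mulVec u = 0 → G.T (D.pt w u) (D.pt w u) (D.bas 2) = 0 →
      G.T (D.pt w u) (D.pt w u) = 0 := by
    intro u hMu h2
    have hq : D.quad w u = 0 := by rw [quad, hMu, dotProduct_zero]
    have hpl : ∀ e, G.T (D.pt w u) (D.pt w u) (D.pt w e) = 0 := fun e => by
      have := polar_pt (D := D) (w := w) u e
      rw [hq, hMu, dotProduct_zero] at this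
      simpa using this
    have e0 : G.T (D.pt w u) (D.pt w u) (D.bas 0) = 0 := by
      have := hpl ![1, 0, 0]; simpa [pt] using this
    have e1 : G.T (D.pt w u) (D.pt w u) (D.bas 1) = 0 := by
      have := hpl ![0, 1, 0]; simpa [pt] using this
    have ew : G.T (D.pt w u) (D.pt w u) w = 0 := by
      have := hpl ![0, 0, 1]; simpa [pt] using this
    have e3 : G.T (D.pt w u) (D.pt w u) (D.bas 3) = 0 := by
      have hw3 : D.bas 3 = w - s • D.bas 2 := by rw [hwdef, wv]; abel
      rw [hw3, map_sub, map_smul, ew, h2, smul_zero, sub_zero]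
    exact D.bas.ext fun i => by fin_cases i <;> assumption
  by_cases hT : G.T (D.pt w v) (D.pt w v) (D.bas 2) = 0
  · exact ⟨v, hv, hMv, hsing v hMv hT⟩
  -- otherwise the conic is a double line
  set N := P.transpose * D.M w * P with hN
  set Pp : Matrix (Fin 3) (Fin 3) (Polynomial K) := P.map Polynomial.C
  set Np := Pp.transpose * D.Mp * Pp with hNp
  have hNev : ∀ i j, (Np i j).eval s = N i j := by
    intro i j
    rw [hN, hwdef, ← D.Mp_eval s]
    simp [Np, Pp, Matrix.mul_apply, Polynomial.eval_finset_sum]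
  have h22 : Np 2 2 = ∑ i, ∑ j, Polynomial.C (v i) * D.Mp i j * Polynomial.C (v j) := by
    simp only [Np, Pp, Matrix.mul_apply, Matrix.transpose_apply, Matrix.map_apply, hP, Finset.sum_mul]
    exact Finset.sum_comm
  have hder : (N 0 0 * N 1 1 - N 0 1 ^ 2) * (Polynomial.derivative (Np 2 2)).eval s = 0 := by
    have h0 : Np.det = 0 := by
      rw [hNp, Matrix.det_mul, Matrix.det_mul, show D.Mp.det = 0 from hd, mul_zero, zero_mul]
    have := congrArg (fun p => (Polynomial.derivative p).eval s) h0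
    simp only [Matrix.det_fin_three, Polynomial.derivative_zero, Polynomial.eval_zero] at this
    simp [hNev, (hz 0).1, (hz 1).1, (hz 2).1, (hz 0).2, (hz 1).2] at this
    rw [← hsy] at this
    linear_combination this
  rw [mul_eq_zero, h22, D.eval_derivative_quad, sub_self, mul_zero, sub_zero, mul_eq_zero] at hder
  have h0 : N 0 0 * N 1 1 - N 0 1 ^ 2 = 0 := hder.resolve_right (fun h => hT (h.resolve_left (by norm_num)))
  -- a second kernel vector
  obtain ⟨y₀, y₁, hy, hy0, hy1⟩ : ∃ y₀ y₁ : K, ![y₀, y₁, 0] ≠ (0 : Fin 3 → K) ∧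
      N 0 0 * y₀ + N 0 1 * y₁ = 0 ∧ N 0 1 * y₀ + N 1 1 * y₁ = 0 := by
    rcases eq_or_ne (N 0 0) 0 with h00 | h00
    · have h01 : N 0 1 = 0 := by simpa [h00] using h0
      exact ⟨1, 0, fun h => one_ne_zero (congrFun h 0), by simp [h00], by simp [h01]⟩
    · exact ⟨-N 0 1, N 0 0, fun h => h00 (congrFun h 1), by ring, by linear_combination h0⟩
  set v' := P.mulVec ![y₀, y₁, 0]
  have hv' : (D.M w).mulVec v' = 0 := by
    have h1 : N.mulVec ![y₀, y₁, 0] = 0 := by
      funext i; fin_cases i <;>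
        simp [Matrix.mulVec, dotProduct, Fin.sum_univ_three, (hz 0).2, (hz 1).2, ← hsy] <;>
        first | linear_combination hy0 | linear_combination hy1
    rw [hN, ← Matrix.mulVec_mulVec, ← Matrix.mulVec_mulVec] at h1
    exact Matrix.eq_zero_of_mulVec_eq_zero (by rwa [Matrix.det_transpose]) h1
  have hne : ∀ t : K, v' + t • v ≠ 0 := by
    intro t h
    have e : P.mulVec ![y₀, y₁, t] = 0 := by
      rw [← h]
      funext i
      simp [v', Matrix.mulVec, dotProduct, Fin.sum_univ_three, hP]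
      ring
    have := Matrix.eq_zero_of_mulVec_eq_zero hPd e
    exact hy (funext fun i => by fin_cases i <;> simp [show y₀ = 0 from congrFun this 0, show y₁ = 0 from congrFun this 1])
  obtain ⟨z, hz'⟩ := Cubic.exists_root_quadratic _ (2 * G.T (D.pt w v') (D.pt w v) (D.bas 2))
    (G.T (D.pt w v') (D.pt w v') (D.bas 2)) hT
  have hMu : (D.M w).mulVec (v' + z • v) = 0 := by rw [Matrix.mulVec_add, Matrix.mulVec_smul, hMv, hv']; simp
  refine ⟨v' + z • v, hne z, hMu, hsing _ hMu ?_⟩
  rw [pt_add_smul]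
  simp only [map_add, map_smul, LinearMap.add_apply, LinearMap.smul_apply, smul_eq_mul]
  rw [G.symm₁₂ (D.pt w v) (D.pt w v') (D.bas 2)]
  linear_combination hz'

/-- With finitely many singular points no pencil is totally degenerate. -/
theorem disc_ne_zero (hnp : NoPlane G) (hcone : ∀ p, p ≠ 0 → G.T p ≠ 0) (hfin : (singRays G).Finite) :
    D.disc ≠ 0 := by
  classical
  intro hd
  choose v hv hMv hTv using singular_of_disc_eq_zero D hd
  have hptne : ∀ s, D.pt (D.wv s) (v s) ≠ 0 := fun s h => hv s (D.indep_wv s _ h)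
  -- planes with a singular point off the line
  have hA : {s | v s 2 ≠ 0}.Finite := by
    refine Set.Finite.of_finite_image (f := fun s => Submodule.span K {D.pt (D.wv s) (v s)})
      (hfin.subset (by rintro _ ⟨s, -, rfl⟩; exact span_mem_singRays (hptne s) (hTv s))) ?_
    intro s hs s' hs' he
    refine plane_wv_injective D ?_
    simp only [Submodule.span_singleton_eq_span_singleton] at he
    obtain ⟨c, hc⟩ := he
    have hmem : D.pt (D.wv s') (v s') ∈ D.plane (D.wv s) := hc ▸ Submodule.smul_mem _ _ (pt_mem_plane _)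
    have hnot : D.pt (D.wv s') (v s') ∉ D.L := fun h => hs' ((mem_L_iff (D.indep_wv s') _).1 h)
    have hlt : D.L < D.L ⊔ Submodule.span K {D.pt (D.wv s') (v s')} := lt_of_le_of_ne le_sup_left fun h =>
      hnot (h ▸ Submodule.mem_sup_right (Submodule.mem_span_singleton_self _))
    have hd2 := Submodule.finrank_lt_finrank_of_lt hlt
    rw [(isLine_L D).1] at hd2
    have e : ∀ t, D.pt (D.wv s') (v s') ∈ D.plane (D.wv t) →
        D.L ⊔ Submodule.span K {D.pt (D.wv s') (v s')} = D.plane (D.wv t) := fun t ht =>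
      Submodule.eq_of_le_of_finrank_le (sup_le (L_le_plane D _) ((Submodule.span_singleton_le_iff_mem _ _).2 ht))
        (by rw [plane, finrank_plane (D.indep_wv t)]; omega)
    rw [← e s hmem, ← e s' (pt_mem_plane _)]
  -- planes with a further line through a singular point
  let C : Set (Submodule K (Fin 4 → K)) := ⋃ U ∈ singRays G, {N | IsLine G N ∧ U ≤ N}
  have hB : {s | ∃ N ∈ C, N ≠ D.L ∧ N ≤ D.plane (D.wv s)}.Finite := by
    refine ((hfin.biUnion fun U hU => finite_lines_through hnp hcone hU).biUnion fun N hN =>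
      (Set.Subsingleton.finite (s := {s | N ≠ D.L ∧ N ≤ D.plane (D.wv s)}) ?_)).subset
        fun s ⟨N, hN, h⟩ => Set.mem_iUnion₂.2 ⟨N, hN, h⟩
    intro s hs s' hs'
    have hNl : IsLine G N := by
      obtain ⟨U, -, h⟩ := Set.mem_iUnion₂.1 hN
      exact h.1
    exact plane_wv_injective D (eq_of_two_lines (finrank_plane (D.indep_wv s)) (finrank_plane (D.indep_wv s'))
      hNl.1 (isLine_L D).1 hs.1 hs.2 (L_le_plane D _) hs'.2 (L_le_plane D _))
  -- planes tangent along the line
  have hC : Set.Subsingleton {s | v s 2 = 0 ∧ ¬ ∃ N ∈ C, N ≠ D.L ∧ N ≤ D.plane (D.wv s)} := by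
    have hflat : ∀ s ∈ {s | v s 2 = 0 ∧ ¬ ∃ N ∈ C, N ≠ D.L ∧ N ≤ D.plane (D.wv s)},
        ∀ i : Fin 3, i ≠ 2 → (D.M (D.wv s)).mulVec (Pi.single i 1) = 0 := by
      rintro s ⟨hv2, hno⟩ i hi
      set w := D.wv s
      have hw : Indep D w := D.indep_wv s
      -- the conic has no zero off the line
      have hz : ∀ u, u 2 ≠ 0 → D.quad w u ≠ 0 := by
        intro u hu hq
        refine hno ⟨Submodule.span K {D.pt w (v s), D.pt w u}, Set.mem_iUnion₂.2 ⟨_,
          span_mem_singRays (hptne s) (hTv s), ⟨?_, ?_⟩,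
          Submodule.span_mono (Set.singleton_subset_iff.2 (Set.mem_insert _ _))⟩, ?_, ?_⟩
        · rw [← Matrix.range_cons_cons_empty (D.pt w (v s)) (D.pt w u) ![], finrank_span_eq_card ?_,
            Fintype.card_fin]
          rw [LinearIndependent.pair_iff' (hptne s)]
          intro c hc
          have h' : D.pt w (u - c • v s) = 0 := by
            show D.ptL w (u - c • v s) = 0
            rw [map_sub, map_smul]; exact sub_eq_zero.2 hc.symm
          exact hu (by simpa [hv2] using congrFun (hw _ h') 2)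
        · intro z hz
          obtain ⟨p, q, rfl⟩ := Submodule.mem_span_pair.1 hz
          have e : p • D.pt w (v s) + q • D.pt w u = D.pt w (q • u + p • v s) := by
            show _ = D.ptL w _
            rw [map_add, map_smul, map_smul, add_comm]; rfl
          have h2 := D.F_pt w (q • u + p • v s)
          rw [dot_polar, quad_smul, quad_smul, hq, quad, Matrix.mulVec_smul, hMv s] at h2
          rw [e]
          simpa using h2
        · exact fun h => hu ((mem_L_iff hw u).1 (h ▸ Submodule.subset_span (by simp)))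
        · exact Submodule.span_le.2 (by rintro z (rfl | rfl) <;> exact pt_mem_plane _)
      have key : ∀ f : Fin 3 → K, f 2 ≠ 0 → D.quad w (Pi.single i 1) = 0 ∧
          dotProduct f ((D.M w).mulVec (Pi.single i 1)) = 0 := by
        intro f hf
        set A := D.quad w (Pi.single i 1)
        set B := dotProduct f ((D.M w).mulVec (Pi.single i 1))
        have hq : ∀ t : K, D.quad w f + A * t ^ 2 + 2 * B * t ≠ 0 := fun t h => by
          refine hz (f + t • Pi.single i 1) (by simp [hi.symm, hf]) ?_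
          rw [dot_polar, quad_smul, Matrix.mulVec_smul, dotProduct_smul, smul_eq_mul]
          linear_combination h
        have hA : A = 0 := by
          by_contra hA
          obtain ⟨t, ht⟩ := Cubic.exists_root_quadratic A (2 * B) (D.quad w f) hA
          exact hq t (by linear_combination ht)
        refine ⟨hA, ?_⟩
        by_contra hB
        exact hq (-D.quad w f / (2 * B)) (by rw [hA]; field_simp; ring)
      funext j
      have h2 := (key (Pi.single 2 1) (by simp)).2
      have hj := (key (Pi.single 2 1 + Pi.single j 1) (by fin_cases j <;> simp)).2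
      simp [add_dotProduct] at h2 hj ⊢
      linear_combination hj - h2
    intro s hs s' hs'
    by_contra hne
    have key : ∀ a b : Fin 3, a ≠ 2 → b ≠ 2 → D.M (D.wv s) a b = 0 ∧ D.M (D.wv s') a b = 0 := fun a b _ hb =>
      ⟨by simpa using congrFun (hflat s hs b hb) a, by simpa using congrFun (hflat s' hs' b hb) a⟩
    have k00 := key 0 0 (by decide) (by decide)
    have k01 := key 0 1 (by decide) (by decide)
    have k11 := key 1 1 (by decide) (by decide)
    simp [M, wv] at k00 k01 k11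
    obtain ⟨t0, t1, t2, t3⟩ := D.T_line
    have hz : ∀ A B : Fin 4 → K, s * G.T A B (D.bas 2) + G.T A B (D.bas 3) = 0 →
        s' * G.T A B (D.bas 2) + G.T A B (D.bas 3) = 0 → G.T A B (D.bas 0) = 0 → G.T A B (D.bas 1) = 0 →
        G.T A B = 0 := by
      intro A B h h' h0 h1
      have h2 : G.T A B (D.bas 2) = 0 :=
        (mul_eq_zero.1 (by linear_combination h - h' : (s - s') * G.T A B (D.bas 2) = 0)).resolve_left (sub_ne_zero.2 hne)
      have h3 : G.T A B (D.bas 3) = 0 := by simpa [h2] using h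
      exact D.bas.ext fun i => by fin_cases i <;> assumption
    have z00 := hz _ _ k00.1 k00.2 t0 t1
    have z01 := hz _ _ k01.1 k01.2 (by rw [G.symm₂₃]; exact t1) t2
    have z11 := hz _ _ k11.1 k11.2 (by rw [G.symm₁₃]; exact t2) t3
    refine Set.infinite_univ (α := K) ((Set.Finite.of_finite_image (f := fun r : K =>
      Submodule.span K {r • D.bas 0 + D.bas 1}) (hfin.subset ?_) ?_))
    · rintro _ ⟨r, -, rfl⟩
      refine span_mem_singRays (fun h => one_ne_zero (α := K) ?_) ?_
      · have := congrArg (fun z => D.bas.repr z 1) h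
        simpa using this
      · simp [z00, z01, z11, show G.T (D.bas 1) (D.bas 0) = 0 from LinearMap.ext fun x => by
          rw [G.symm₁₂, z01]]
    · intro r _ r' _ h
      simp only [Submodule.span_singleton_eq_span_singleton] at h
      obtain ⟨c, hc⟩ := h
      have h0 := congrArg (fun z => D.bas.repr z 0) hc
      have h1 := congrArg (fun z => D.bas.repr z 1) hc
      simp [Units.smul_def] at h0 h1
      rw [h1] at h0
      simpa using h0
  refine Set.infinite_univ (α := K) (((hA.union hB).union hC.finite).subset fun s _ => ?_)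
  simp only [Set.mem_union, Set.mem_setOf_eq]
  by_cases h1 : v s 2 = 0
  · by_cases h2 : ∃ N ∈ C, N ≠ D.L ∧ N ≤ D.plane (D.wv s)
    · exact Or.inl (Or.inr h2)
    · exact Or.inr ⟨h1, h2⟩
  · exact Or.inl (Or.inl h1)

end LineData

open LineData

/-- With finitely many singular points there are finitely many lines. -/
theorem finite_lines (hnp : NoPlane G) (hcone : ∀ p, p ≠ 0 → G.T p ≠ 0) (hfin : (singRays G).Finite) :
    {U | IsLine G U}.Finite := by
  classical
  by_cases hex : ∃ L, IsLine G L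
  swap
  · exact Set.Finite.subset Set.finite_empty fun U hU => hex ⟨U, hU⟩
  obtain ⟨L, hL⟩ := hex
  have hmeet : ∀ N, IsLine G N → (meeting G N).Finite := fun N hN => by
    obtain ⟨D, rfl⟩ := LineData.exists_of_line G N hN.1 hN.2
    exact Set.not_infinite.1 fun h => D.disc_ne_zero hnp hcone hfin (disc_eq_zero_of_infinite hnp D h)
  obtain ⟨D₀, rfl⟩ := LineData.exists_of_line G L hL.1 hL.2
  obtain ⟨s₀, hs₀⟩ : ∃ s, D₀.disc.eval s ≠ 0 := by
    by_contra! h
    exact D₀.disc_ne_zero hnp hcone hfin (Polynomial.funext fun s => by rw [h, Polynomial.eval_zero])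
  rw [D₀.disc_eval] at hs₀
  have hli : LinearIndependent K ![D₀.bas 0, D₀.bas 1, D₀.wv s₀, D₀.bas 2] := by
    rw [Fintype.linearIndependent_iff]
    intro d hd
    have h := Fintype.linearIndependent_iff.1 D₀.bas.linearIndependent ![d 0, d 1, d 2 * s₀ + d 3, d 2] (by
      simp [Fin.sum_univ_four, wv] at hd ⊢; rw [← hd]; module)
    have a0 : d 0 = 0 := h 0
    have a1 : d 1 = 0 := h 1
    have a2 : d 2 = 0 := h 3
    have a3 : d 3 = 0 := by simpa [a2] using (h 2 : d 2 * s₀ + d 3 = 0)
    intro i; fin_cases i <;> assumption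
  let D : LineData G := ⟨basisOfLinearIndependentOfCardEqFinrank hli (by simp), by simpa using D₀.onLine⟩
  have h2 : (D.M (D.bas 2)).det ≠ 0 := by simpa [D, M] using hs₀
  have hdeg : D.disc.natDegree = 5 := by
    rw [disc, Matrix.det_fin_three]
    simp only [Mp, pl, pq, pc, Matrix.of_apply, Matrix.cons_val', Matrix.cons_val_zero, Matrix.cons_val_one,
      Matrix.cons_val_two, Matrix.tail_cons, Matrix.head_cons, Matrix.empty_val', Matrix.cons_val_fin_one,
      Matrix.head_fin_const, Matrix.cons_val]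
    compute_degree!
    intro h0
    refine h2 ?_
    rw [Matrix.det_fin_three]
    simp [M]
    linear_combination h0
  obtain ⟨s, hs⟩ := IsAlgClosed.exists_root D.disc fun h => by
    have := Polynomial.natDegree_eq_of_degree_eq_some (n := 0) h
    omega
  rw [Polynomial.IsRoot, D.disc_eval] at hs
  obtain ⟨K₁, K₂, K₃, hle, hln, hsec, -⟩ :=
    triple_lines hnp (finrank_plane (D.indep_wv s)) (isTriple_of_det (D.indep_wv s) hs)
  refine ((Set.toFinite {K₁, K₂, K₃}).union ((hmeet K₁ hln.1).union ((hmeet K₂ hln.2.1).union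
    (hmeet K₃ hln.2.2)))).subset fun N hN => ?_
  obtain ⟨v, hv, hv0⟩ := (Submodule.ne_bot_iff _).1
    (inf_ne_bot_of_le (le_top : N ≤ ⊤) (le_top : LinearMap.range (D.ptL (D.wv s)) ≤ ⊤)
      (by rw [finrank_top, Module.finrank_fin_fun, hN.1, finrank_plane (D.indep_wv s)]; omega))
  by_cases hN' : N ∈ ({K₁, K₂, K₃} : Set _)
  · exact Or.inl hN'
  simp only [Set.mem_insert_iff, Set.mem_singleton_iff, not_or] at hN'
  have hm : ∀ R, v ∈ R → N ≠ R → N ∈ meeting G R := fun R hvR hne =>
    ⟨hN, hne, (Submodule.ne_bot_iff _).2 ⟨v, ⟨hv.1, hvR⟩, hv0⟩⟩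
  rcases hsec v hv.2 (hN.2 v hv.1) with h | h | h
  · exact Or.inr (Or.inl (hm _ h hN'.1))
  · exact Or.inr (Or.inr (Or.inl (hm _ h hN'.2.1)))
  · exact Or.inr (Or.inr (Or.inr (hm _ h hN'.2.2)))

omit [IsAlgClosed K] in
/-- Infinitely many singular points lie on a double line. -/
theorem double_line (hnp : NoPlane G) (hinf : (singRays G).Infinite) :
    ∃ p q, LinearIndependent K ![p, q] ∧ (∀ x, G.T x x = 0 → x ∈ Submodule.span K {p, q}) ∧
      ∀ x ∈ Submodule.span K {p, q}, G.T x x = 0 := by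
  classical
  -- three singular points span a plane with no other singular point
  have coplanar : ∀ (e₁ e₂ e₃ : Fin 4 → K), LinearIndependent K ![e₁, e₂, e₃] → G.T e₁ e₁ = 0 →
      G.T e₂ e₂ = 0 → G.T e₃ e₃ = 0 → ∀ a b c : K, G.T (a • e₁ + b • e₂ + c • e₃) (a • e₁ + b • e₂ + c • e₃) = 0 →
        b * c = 0 ∧ a * c = 0 ∧ a * b = 0 := by
    intro e₁ e₂ e₃ hli h1 h2 h3 a b c hs
    have hT : G.T e₁ e₂ e₃ ≠ 0 := by
      intro h0
      obtain ⟨u, hu, hFu⟩ := hnp (Submodule.span K (Set.range ![e₁, e₂, e₃]))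
        (by rw [finrank_span_eq_card hli, Fintype.card_fin])
      obtain ⟨d, rfl⟩ := (Submodule.mem_span_range_iff_exists_fun K).1 hu
      refine hFu ?_
      simp only [Fin.sum_univ_three, Matrix.cons_val_zero, Matrix.cons_val_one, Matrix.cons_val_two,
        Matrix.tail_cons, Matrix.head_cons]
      rw [G.F_comb₃, h0]
      simp [Cubic.F, h1, h2, h3, G.symm₁₃ e₁ e₂ e₂, G.symm₁₃ e₂ e₃ e₃, G.symm₁₃ e₁ e₃ e₃]
    have f1 : ∀ x, G.T e₁ e₁ x = 0 := fun x => by rw [h1]; rfl
    have f2 : ∀ x, G.T e₂ e₂ x = 0 := fun x => by rw [h2]; rfl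
    have f3 : ∀ x, G.T e₃ e₃ x = 0 := fun x => by rw [h3]; rfl
    have k : ∀ z, 2 * (a * b * G.T e₁ e₂ z + a * c * G.T e₁ e₃ z + b * c * G.T e₂ e₃ z) = 0 := fun z => by
      have := LinearMap.congr_fun hs z
      simp only [map_add, map_smul, LinearMap.add_apply, LinearMap.smul_apply, LinearMap.zero_apply,
        smul_eq_mul, f1, f2, f3, G.symm₁₂ e₂ e₁ z, G.symm₁₂ e₃ e₁ z, G.symm₁₂ e₃ e₂ z] at this
      linear_combination this
    have k1 := k e₁; have k2 := k e₂; have k3 := k e₃
    have g : ∀ e, G.T e e = 0 → ∀ x, G.T e x e = 0 ∧ G.T x e e = 0 := fun e he x =>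
      ⟨by rw [G.symm₂₃, he]; rfl, by rw [G.symm₁₃, he]; rfl⟩
    rw [(g e₁ h1 e₂).1, (g e₁ h1 e₃).1, G.symm₁₃ e₂ e₃ e₁, G.symm₂₃ e₁ e₃ e₂] at k1
    rw [(g e₂ h2 e₁).2, G.symm₂₃ e₁ e₃ e₂, (g e₂ h2 e₃).1] at k2
    rw [(g e₃ h3 e₁).2, (g e₃ h3 e₂).2] at k3
    simp [hT] at k1 k2 k3
    exact ⟨by simpa using k1, by simpa using k2, by simpa using k3⟩
  have rep : ∀ U ∈ singRays G, ∃ b, b ≠ 0 ∧ G.T b b = 0 ∧ U = Submodule.span K {b} := fun U hU => by
    obtain ⟨b, hb, hb0, hUb⟩ := span_eq_of_finrank_one hU.1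
    exact ⟨b, hb0, hU.2 b hb, hUb⟩
  obtain ⟨U₁, hU₁⟩ := hinf.nonempty
  obtain ⟨p, hp, hTp, rfl⟩ := rep U₁ hU₁
  obtain ⟨U₂, hU₂, hne⟩ := (hinf.sdiff (Set.finite_singleton (Submodule.span K {p}))).nonempty
  obtain ⟨q, hq, hTq, rfl⟩ := rep U₂ hU₂
  have hpq : LinearIndependent K ![p, q] := by
    rw [LinearIndependent.pair_iff' hp]
    intro c hc
    have hc0 : c ≠ 0 := fun h => hq (by rw [← hc, h, zero_smul])
    exact hne (by rw [← hc, Submodule.span_singleton_smul_eq (isUnit_iff_ne_zero.2 hc0)]; rfl)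
  have hall : ∀ x, G.T x x = 0 → x ∈ Submodule.span K {p, q} := by
    intro r hr
    by_contra hr'
    have hli : LinearIndependent K ![r, p, q] := by
      refine linearIndependent_fin_cons.2 ⟨hpq, ?_⟩
      rwa [Matrix.range_cons_cons_empty]
    by_cases hout : ∃ t, G.T t t = 0 ∧ t ∉ Submodule.span K (Set.range ![r, p, q])
    · obtain ⟨t, ht, hto⟩ := hout
      have hli4 : LinearIndependent K ![t, r, p, q] := linearIndependent_fin_cons.2 ⟨hli, hto⟩
      let B := basisOfLinearIndependentOfCardEqFinrank hli4 (by simp)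
      have hTB : ∀ i, G.T (B i) (B i) = 0 := fun i => by fin_cases i <;> simp [B] <;> assumption
      refine hinf ((Set.finite_range fun i => Submodule.span K {B i}).subset fun U hU => ?_)
      obtain ⟨u, hu0, hTu, rfl⟩ := rep U hU
      set c : Fin 4 → K := fun i => B.repr u i
      have hu : u = c 0 • B 0 + c 1 • B 1 + c 2 • B 2 + c 3 • B 3 := by
        conv_lhs => rw [← B.sum_repr u, Fin.sum_univ_four]
      -- some coordinate vanishes
      obtain ⟨i, hi⟩ : ∃ i, c i = 0 := by
        by_contra! hc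
        obtain ⟨z, -, hFz⟩ := hnp _ (finrank_ker_three (l := B.coord 0) fun h => one_ne_zero (α := K)
          (by simpa [B.coord_apply] using LinearMap.congr_fun h (B 0)))
        refine hFz ?_
        have hk : ∀ i, G.T u u (B i) = 0 := fun i => by rw [hTu]; rfl
        have f : ∀ i x, G.T (B i) (B i) x = 0 := fun i x => by rw [hTB i]; rfl
        have h0 := hk 0; have h1 := hk 1; have h2 := hk 2; have h3 := hk 3
        have e : ∀ i, G.T u u (B i) = 2 * (c 0 * c 1 * G.T (B 0) (B 1) (B i) + c 0 * c 2 * G.T (B 0) (B 2) (B i) +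
            c 0 * c 3 * G.T (B 0) (B 3) (B i) + c 1 * c 2 * G.T (B 1) (B 2) (B i) +
            c 1 * c 3 * G.T (B 1) (B 3) (B i) + c 2 * c 3 * G.T (B 2) (B 3) (B i)) := fun i => by
          rw [hu]
          simp only [map_add, map_smul, LinearMap.add_apply, LinearMap.smul_apply, smul_eq_mul, f,
            G.symm₁₂ (B 1) (B 0), G.symm₁₂ (B 2) (B 0), G.symm₁₂ (B 3) (B 0), G.symm₁₂ (B 2) (B 1),
            G.symm₁₂ (B 3) (B 1), G.symm₁₂ (B 3) (B 2)]
          ring
        rw [e] at h0 h1 h2 h3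
        have f' : ∀ i x, G.T (B i) x (B i) = 0 := fun i x => by rw [G.symm₂₃]; exact f i x
        have f'' : ∀ i x, G.T x (B i) (B i) = 0 := fun i x => by rw [G.symm₁₃]; exact f i x
        simp only [G.symm₁₂, G.symm₂₃] at h0 h1 h2 h3 ⊢
        simp only [f, f', f''] at h0 h1 h2 h3
        have m0 : c 1 * c 2 * c 3 * G.T (B 1) (B 2) (B 3) = 0 := by
          linear_combination (-2 * c 0 / 6) * h0 + (c 1 / 6) * h1 + (c 2 / 6) * h2 + (c 3 / 6) * h3
        have m1 : c 0 * c 2 * c 3 * G.T (B 0) (B 2) (B 3) = 0 := by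
          linear_combination (c 0 / 6) * h0 + (-2 * c 1 / 6) * h1 + (c 2 / 6) * h2 + (c 3 / 6) * h3
        have m2 : c 0 * c 1 * c 3 * G.T (B 0) (B 1) (B 3) = 0 := by
          linear_combination (c 0 / 6) * h0 + (c 1 / 6) * h1 + (-2 * c 2 / 6) * h2 + (c 3 / 6) * h3
        have m3 : c 0 * c 1 * c 2 * G.T (B 0) (B 1) (B 2) = 0 := by
          linear_combination (c 0 / 6) * h0 + (c 1 / 6) * h1 + (c 2 / 6) * h2 + (-2 * c 3 / 6) * h3
        simp [hc] at m0 m1 m2 m3
        rw [show z = B.repr z 0 • B 0 + B.repr z 1 • B 1 + B.repr z 2 • B 2 + B.repr z 3 • B 3 by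
          conv_lhs => rw [← B.sum_repr z, Fin.sum_univ_four], G.F_comb₄]
        simp [Cubic.F, f, f', f'', m0, m1, m2, m3]
      -- so it is one of the four points
      have key : ∀ a b d : Fin 4, Function.Injective ![a, b, d] →
          u = c a • B a + c b • B b + c d • B d → c b * c d = 0 ∧ c a * c d = 0 ∧ c a * c b = 0 := fun a b d hinj he =>
        coplanar _ _ _ (by
          have : ![B a, B b, B d] = B ∘ ![a, b, d] := by funext i; fin_cases i <;> rfl
          rw [this]; exact B.linearIndependent.comp _ hinj) (hTB a) (hTB b) (hTB d) _ _ _ (he ▸ hTu)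
      have htwo : ∀ i j, i ≠ j → c i * c j = 0 := by
        intro i' j' hij
        have h : (c 0 = 0 → c 2 * c 3 = 0 ∧ c 1 * c 3 = 0 ∧ c 1 * c 2 = 0) ∧
            (c 1 = 0 → c 2 * c 3 = 0 ∧ c 0 * c 3 = 0 ∧ c 0 * c 2 = 0) ∧
            (c 2 = 0 → c 1 * c 3 = 0 ∧ c 0 * c 3 = 0 ∧ c 0 * c 1 = 0) ∧
            (c 3 = 0 → c 1 * c 2 = 0 ∧ c 0 * c 2 = 0 ∧ c 0 * c 1 = 0) :=
          ⟨fun h => key 1 2 3 (by decide) (by rw [hu]; simp [h]), fun h => key 0 2 3 (by decide) (by rw [hu]; simp [h]),
            fun h => key 0 1 3 (by decide) (by rw [hu]; simp [h]), fun h => key 0 1 2 (by decide) (by rw [hu]; simp [h])⟩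
        obtain ⟨e₁, e₂, e₃⟩ : ∃ x y z : Fin 4, (∀ l, l = i ∨ l = x ∨ l = y ∨ l = z) ∧
            c y * c z = 0 ∧ c x * c z = 0 ∧ c x * c y = 0 := by
          fin_cases i
          exacts [⟨1, 2, 3, by decide, h.1 hi⟩, ⟨0, 2, 3, by decide, h.2.1 hi⟩, ⟨0, 1, 3, by decide, h.2.2.1 hi⟩,
            ⟨0, 1, 2, by decide, h.2.2.2 hi⟩]
        obtain ⟨z', hcov, z₁, z₂, z₃⟩ := e₃
        rcases hcov i' with rfl | rfl | rfl | rfl <;> rcases hcov j' with rfl | rfl | rfl | rfl <;>
          first | exact absurd rfl hij | exact mul_eq_zero_of_left hi _ | exact mul_eq_zero_of_right _ hi |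
            assumption | (rw [mul_comm]; assumption)
      obtain ⟨j, hj⟩ : ∃ j, c j ≠ 0 := by
        by_contra! h
        exact hu0 (by rw [hu]; simp [h])
      refine ⟨j, ?_⟩
      have : u = c j • B j := by
        conv_lhs => rw [← B.sum_repr u]
        exact Finset.sum_eq_single j (fun i _ hij => by
          show c i • B i = 0
          rw [(mul_eq_zero.1 (htwo i j hij)).resolve_right hj, zero_smul]) (by simp)
      show Submodule.span K {B j} = _
      rw [this, Submodule.span_singleton_smul_eq (isUnit_iff_ne_zero.2 hj)]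
    · push Not at hout
      refine hinf ((Set.toFinite ({Submodule.span K {r}, Submodule.span K {p}, Submodule.span K {q}} :
        Set (Submodule K (Fin 4 → K)))).subset fun U hU => ?_)
      obtain ⟨u, hu0, hTu, rfl⟩ := rep U hU
      obtain ⟨d, hd⟩ := (Submodule.mem_span_range_iff_exists_fun K).1 (hout u hTu)
      have hu : u = d 0 • r + d 1 • p + d 2 • q := by rw [← hd]; simp [Fin.sum_univ_three]
      obtain ⟨h1, h2, h3⟩ := coplanar r p q hli hr hTp hTq _ _ _ (hu ▸ hTu)
      subst hu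
      rcases eq_or_ne (d 0) 0 with a0 | a0
      · rcases mul_eq_zero.1 h1 with a1 | a2
        · simp only [a0, a1, zero_smul, zero_add] at hu0 ⊢
          rw [Submodule.span_singleton_smul_eq (isUnit_iff_ne_zero.2 (smul_ne_zero_iff.1 hu0).1)]; simp
        · simp only [a0, a2, zero_smul, zero_add, add_zero] at hu0 ⊢
          rw [Submodule.span_singleton_smul_eq (isUnit_iff_ne_zero.2 (smul_ne_zero_iff.1 hu0).1)]; simp
      · simp only [(mul_eq_zero.1 h2).resolve_left a0, (mul_eq_zero.1 h3).resolve_left a0, zero_smul, add_zero] at hu0 ⊢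
        rw [Submodule.span_singleton_smul_eq (isUnit_iff_ne_zero.2 a0)]; simp
  refine ⟨p, q, hpq, hall, ?_⟩
  -- a third singular point on the line
  obtain ⟨U₃, hU₃, hne₃⟩ := (hinf.sdiff (Set.toFinite ({Submodule.span K {p}, Submodule.span K {q}} : Set _))).nonempty
  obtain ⟨r, hr0, hTr, rfl⟩ := rep U₃ hU₃
  obtain ⟨α, β, rfl⟩ := Submodule.mem_span_pair.1 (hall r hTr)
  have hα : α ≠ 0 := fun h => hne₃ (by
    simp only [h, zero_smul, zero_add] at hr0 ⊢
    rw [Submodule.span_singleton_smul_eq (isUnit_iff_ne_zero.2 (smul_ne_zero_iff.1 hr0).1)]; simp)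
  have hβ : β ≠ 0 := fun h => hne₃ (by
    simp only [h, zero_smul, add_zero] at hr0 ⊢
    rw [Submodule.span_singleton_smul_eq (isUnit_iff_ne_zero.2 hα)]; simp)
  have hTqp : G.T p q = 0 := LinearMap.ext fun z => by
    have := LinearMap.congr_fun hTr z
    simp [hTp, hTq, G.symm₁₂ q p z] at this
    have h' : (2 * α * β) * G.T p q z = 0 := by linear_combination this
    simpa [hα, hβ] using h'
  have hTpq : G.T q p = 0 := LinearMap.ext fun z => by rw [G.symm₁₂, hTqp]
  intro x hx
  obtain ⟨a, b, rfl⟩ := Submodule.mem_span_pair.1 hx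
  simp [hTp, hTq, hTqp, hTpq]

section Descent

variable {k : Type u} [Field k] [CharZero k] [Algebra k K]

omit [IsAlgClosed K] [CharZero k] in
theorem exists_eval_ne_zero [CharZero k] (P : MvPolynomial (Fin 4) K) (hP : P ≠ 0) :
    ∃ x : Fin 4 → k, MvPolynomial.eval (ext K x) P ≠ 0 := by
  by_contra! h
  refine hP (MvPolynomial.funext_set (fun _ => Set.range (algebraMap k K))
    (fun _ => Set.infinite_range_of_injective (algebraMap k K).injective) fun y hy => ?_)
  choose x hx using fun i => hy i trivial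
  rw [map_zero, show y = ext K x from funext fun i => (hx i).symm]
  exact h x

omit [IsAlgClosed K] in
theorem cone_ext {G₀ : Cubic k (Fin 4 → k)} (hc : Compat G₀ G) (hcone : ∀ p, p ≠ 0 → G₀.T p ≠ 0) :
    ∀ p, p ≠ 0 → G.T p ≠ 0 := by
  classical
  let Φ : (Fin 4 → k) →ₗ[k] (Fin 4 × Fin 4 → k) :=
    LinearMap.pi fun ij => ((G₀.T.flip (Pi.single ij.1 1)).flip (Pi.single ij.2 1))
  have hΦ : ∀ v ij, Φ v ij = G₀.T v (Pi.single ij.1 1) (Pi.single ij.2 1) := fun v ij => rfl
  obtain ⟨B, hB⟩ := Φ.exists_leftInverse_of_injective (LinearMap.ker_eq_bot'.2 fun v hv => by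
    by_contra hne
    refine hcone v hne (LinearMap.ext fun x => LinearMap.ext fun y => ?_)
    rw [pi_eq_sum_univ' x, pi_eq_sum_univ' y]
    simp only [map_sum, map_smul, LinearMap.sum_apply, LinearMap.smul_apply, smul_eq_mul, LinearMap.zero_apply,
      ← hΦ v ⟨_, _⟩, hv, Pi.zero_apply, mul_zero, Finset.sum_const_zero])
  intro p hp h0
  refine hp (funext fun l => ?_)
  have hid : ∀ m l, (if l = m then (1 : k) else 0) =
      ∑ ij, G₀.T (Pi.single m 1) (Pi.single ij.1 1) (Pi.single ij.2 1) * B (Pi.single ij 1) l := fun m l => by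
    have h := congrFun (LinearMap.congr_fun hB (Pi.single m 1)) l
    simp only [LinearMap.comp_apply, LinearMap.id_apply] at h
    rw [pi_eq_sum_univ' (Φ (Pi.single m 1)), map_sum, Finset.sum_apply] at h
    simp only [map_smul, Pi.smul_apply, smul_eq_mul, hΦ, Pi.single_apply] at h
    rw [← h]
  have hsum : ∀ ij : Fin 4 × Fin 4,
      ∑ m, p m * algebraMap k K (G₀.T (Pi.single m 1) (Pi.single ij.1 1) (Pi.single ij.2 1)) = 0 := fun ij => by
    have h := LinearMap.congr_fun (LinearMap.congr_fun h0 (Pi.single ij.1 1)) (Pi.single ij.2 1)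
    rw [pi_eq_sum_univ' p, map_sum] at h
    simp only [map_smul, LinearMap.sum_apply, LinearMap.smul_apply, LinearMap.zero_apply, smul_eq_mul] at h
    rw [← h]
    refine Finset.sum_congr rfl fun m _ => ?_
    rw [← hc, ext_single, ext_single, ext_single]
  calc p l = ∑ m, p m * algebraMap k K (if l = m then 1 else 0) := by simp
    _ = ∑ m, ∑ ij : Fin 4 × Fin 4, algebraMap k K (B (Pi.single ij 1) l) *
          (p m * algebraMap k K (G₀.T (Pi.single m 1) (Pi.single ij.1 1) (Pi.single ij.2 1))) := by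
        refine Finset.sum_congr rfl fun m _ => ?_
        rw [hid, map_sum, Finset.mul_sum]
        exact Finset.sum_congr rfl fun ij _ => by rw [map_mul]; ring
    _ = 0 := by
        rw [Finset.sum_comm]
        exact Finset.sum_eq_zero fun ij _ => by rw [← Finset.mul_sum, hsum, mul_zero]

/-- A double line has a rational point. -/
theorem exists_rational_singular [IsGalois k K] (F : MvPolynomial (Fin 4) k)
    (hGK' : ∀ v i, MvPolynomial.eval v (MvPolynomial.pderiv i (MvPolynomial.map (algebraMap k K) F)) =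
      3 * G.T v v (Pi.single i 1))
    (hnp : NoPlane G) (hinf : (singRays G).Infinite) :
    ∃ a : Fin 4 → k, a ≠ 0 ∧ G.T (ext K a) (ext K a) = 0 := by
  classical
  obtain ⟨p, q, hpq, hsub, hsing⟩ := double_line hnp hinf
  set S := Submodule.span K {p, q}
  have hconj : ∀ (σ : K ≃ₐ[k] K) (x), G.T x x = 0 → G.T (fun i => σ (x i)) (fun i => σ (x i)) = 0 := by
    intro σ x hx
    refine LinearMap.ext fun z => ?_
    rw [pi_eq_sum_univ' z, map_sum, LinearMap.zero_apply]
    refine Finset.sum_eq_zero fun i _ => ?_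
    have e : ∀ y : Fin 4 → K, 3 * G.T y y (Pi.single i 1) =
        MvPolynomial.eval₂ (algebraMap k K) y (MvPolynomial.pderiv i F) := fun y => by
      rw [← hGK', MvPolynomial.pderiv_map, MvPolynomial.eval_map]
    have h3 : 3 * G.T (fun i => σ (x i)) (fun i => σ (x i)) (Pi.single i 1) = 0 := by
      rw [e]
      have h := MvPolynomial.eval₂_comp_left (σ : K →+* K) (algebraMap k K) x (MvPolynomial.pderiv i F)
      rw [← e, hx, LinearMap.zero_apply, mul_zero, map_zero] at h
      rw [show ((σ : K →+* K).comp (algebraMap k K)) = algebraMap k K from RingHom.ext fun c => σ.commutes c] at h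
      exact h.symm
    rw [map_smul, (mul_eq_zero.1 h3).resolve_left (by norm_num), smul_zero]
  -- a normalised point of the line
  have hS : finrank K S = 2 := by
    show finrank K (Submodule.span K {p, q}) = 2
    rw [← Matrix.range_cons_cons_empty p q ![], finrank_span_eq_card hpq, Fintype.card_fin]
  obtain ⟨i, hi⟩ : ∃ i, ∃ z ∈ S, z i ≠ 0 := by
    by_contra! h
    exact hpq.ne_zero 0 (funext fun i => h i p (Submodule.subset_span (by simp)))
  obtain ⟨z, hz, hzi⟩ := hi
  have hT : finrank K ↥(S ⊓ LinearMap.ker (LinearMap.proj i : (Fin 4 → K) →ₗ[K] K)) = 1 := by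
    have hlt : S ⊓ LinearMap.ker (LinearMap.proj i : (Fin 4 → K) →ₗ[K] K) < S :=
      lt_of_le_of_ne inf_le_left fun h => hzi (LinearMap.mem_ker.1 (h.symm ▸ hz : z ∈ S ⊓ _).2)
    have h1 := Submodule.finrank_lt_finrank_of_lt hlt
    have h2 := Submodule.finrank_sup_add_finrank_inf_eq S (LinearMap.ker (LinearMap.proj i : (Fin 4 → K) →ₗ[K] K))
    have h3 := Submodule.finrank_le (S ⊔ LinearMap.ker (LinearMap.proj i : (Fin 4 → K) →ₗ[K] K))
    rw [finrank_ker_three (fun h => one_ne_zero (α := K)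
      (by simpa using LinearMap.congr_fun h (Pi.single i 1)))] at h2
    rw [Module.finrank_fin_fun] at h3
    omega
  obtain ⟨x₀, ⟨hx₀S, hx₀i⟩, hx₀, hspan⟩ := span_eq_of_finrank_one hT
  obtain ⟨j, hj⟩ : ∃ j, x₀ j ≠ 0 := Function.ne_iff.1 hx₀
  set x := (x₀ j)⁻¹ • x₀
  have hxS : x ∈ S := S.smul_mem _ hx₀S
  have hxj : x j = 1 := by simp [x, hj]
  have hxi : x i = 0 := by simp [x, show x₀ i = 0 from hx₀i]
  have hfix : ∀ σ : K ≃ₐ[k] K, (fun l => σ (x l)) = x := by
    intro σ
    have hm : (fun l => σ (x l)) ∈ S ⊓ LinearMap.ker (LinearMap.proj i : (Fin 4 → K) →ₗ[K] K) :=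
      ⟨hsub _ (hconj σ x (hsing x hxS)), by simp [hxi]⟩
    rw [hspan] at hm
    obtain ⟨c, hc⟩ := Submodule.mem_span_singleton.1 hm
    have hcj := congrFun hc j
    simp only [Pi.smul_apply, smul_eq_mul, hxj, map_one] at hcj
    rw [← hc, eq_inv_of_mul_eq_one_left hcj]
  choose a ha using fun l => (InfiniteGalois.mem_range_algebraMap_iff_fixed (k := k) (x l)).2
    fun σ => congrFun (hfix σ) l
  have hax : ext K a = x := funext ha
  exact ⟨a, fun h => one_ne_zero (α := K) (by rw [← hxj, ← hax, h]; simp [ext]), by rw [hax]; exact hsing x hxS⟩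

end Descent

end

end Groth.Agent.CubicLib
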