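import Groth.Agent.CubicLib.TwentySeven
import Groth.Agent.CubicLib.SingularLines

/-!
# Finitely many T-points on a tangent plane at a point which is not a T-point

No classification of cubic surfaces is needed: a line met by infinitely many lines ("special") has a totally
degenerate pencil, hence meets the line `L₀` of the tangent section, and `L₀` is met by finitely many lines.
-/

namespace Groth.Agent.CubicLib

open Module

universe u

variable {K : Type u} [Field K] {G : Cubic K (Fin 4 → K)}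

noncomputable section

/-- no plane on the cubic -/
def NoPlane (G : Cubic K (Fin 4 → K)) : Prop :=
  ∀ P : Submodule K (Fin 4 → K), finrank K P = 3 → ∃ u ∈ P, G.F u ≠ 0

/-- the section by the plane is a union of three lines -/
def IsTriple (G : Cubic K (Fin 4 → K)) (P : Submodule K (Fin 4 → K)) : Prop :=
  ∃ l₁ l₂ l₃ : (Fin 4 → K) →ₗ[K] K, ∀ v ∈ P, G.F v = l₁ v * l₂ v * l₃ v

/-- a T-point -/
def IsTPt (G : Cubic K (Fin 4 → K)) (b : Fin 4 → K) : Prop :=
  b ≠ 0 ∧ G.F b = 0 ∧ G.T b b ≠ 0 ∧ IsTriple G (LinearMap.ker (G.T b b))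

theorem vanish_of_prod [Infinite K] {V : Type u} [AddCommGroup V] [Module K V] (U : Submodule K V)
    (l₁ l₂ l₃ : V →ₗ[K] K) (h : ∀ u ∈ U, l₁ u * l₂ u * l₃ u = 0) :
    (∀ u ∈ U, l₁ u = 0) ∨ (∀ u ∈ U, l₂ u = 0) ∨ (∀ u ∈ U, l₃ u = 0) := by
  by_contra! hne
  obtain ⟨⟨u₁, hu₁, h₁⟩, ⟨u₂, hu₂, h₂⟩, ⟨u₃, hu₃, h₃⟩⟩ := hne
  let P : (V →ₗ[K] K) → Polynomial K := fun l =>
    Polynomial.C (l u₁) + Polynomial.C (l u₂) * Polynomial.X + Polynomial.C (l u₃) * Polynomial.X ^ 2
  have hev : ∀ l t, (P l).eval t = l (u₁ + t • u₂ + t ^ 2 • u₃) := fun l t => by simp [P]; ring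
  have hP : ∀ l : V →ₗ[K] K, (l u₁ ≠ 0 ∨ l u₂ ≠ 0 ∨ l u₃ ≠ 0) → P l ≠ 0 := by
    intro l hl h0
    have c0 := congrArg (Polynomial.coeff · 0) h0
    have c1 := congrArg (Polynomial.coeff · 1) h0
    have c2 := congrArg (Polynomial.coeff · 2) h0
    simp [P] at c0 c1 c2
    tauto
  have : P l₁ * P l₂ * P l₃ = 0 := Polynomial.funext fun t => by
    rw [Polynomial.eval_mul, Polynomial.eval_mul, hev, hev, hev, Polynomial.eval_zero]
    exact h _ (add_mem (add_mem hu₁ (U.smul_mem t hu₂)) (U.smul_mem _ hu₃))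
  rcases mul_eq_zero.1 this with h12 | h3
  · rcases mul_eq_zero.1 h12 with h1 | h2
    · exact hP l₁ (Or.inl h₁) h1
    · exact hP l₂ (Or.inr (Or.inl h₂)) h2
  · exact hP l₃ (Or.inr (Or.inr h₃)) h3

theorem finrank_inf_ker (P : Submodule K (Fin 4 → K)) (hP : finrank K P = 3) (l : (Fin 4 → K) →ₗ[K] K)
    (hl : ∃ v ∈ P, l v ≠ 0) : finrank K ↥(P ⊓ LinearMap.ker l) = 2 := by
  obtain ⟨v, hv, hlv⟩ := hl
  have h1 := LinearMap.finrank_range_add_finrank_ker (l.comp P.subtype)
  have h2 : LinearMap.range (l.comp P.subtype) = ⊤ := LinearMap.range_eq_top.2 fun c => ⟨(c / l v) • ⟨v, hv⟩, by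
    simp [div_mul_cancel₀ _ hlv]⟩
  rw [h2, finrank_top, Module.finrank_self, hP] at h1
  have e : P ⊓ LinearMap.ker l = (LinearMap.ker (l.comp P.subtype)).map P.subtype := by
    rw [LinearMap.ker_comp, Submodule.map_comap_subtype]
  rw [e, ← (Submodule.equivMapOfInjective _ P.injective_subtype _).finrank_eq]
  omega

/-- The structure of a triple section. -/
theorem triple_lines [CharZero K] (hnp : NoPlane G) {P : Submodule K (Fin 4 → K)} (hP : finrank K P = 3)
    (h : IsTriple G P) : ∃ K₁ K₂ K₃ : Submodule K (Fin 4 → K),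
      (K₁ ≤ P ∧ K₂ ≤ P ∧ K₃ ≤ P) ∧ (IsLine G K₁ ∧ IsLine G K₂ ∧ IsLine G K₃) ∧
      (∀ v ∈ P, G.F v = 0 → v ∈ K₁ ∨ v ∈ K₂ ∨ v ∈ K₃) ∧
      ∀ U, IsLine G U → U ≤ P → U = K₁ ∨ U = K₂ ∨ U = K₃ := by
  obtain ⟨l₁, l₂, l₃, hl⟩ := h
  obtain ⟨u, hu, hFu⟩ := hnp P hP
  rw [hl u hu] at hFu
  simp only [mul_ne_zero_iff] at hFu
  have d₁ := finrank_inf_ker P hP l₁ ⟨u, hu, hFu.1.1⟩
  have d₂ := finrank_inf_ker P hP l₂ ⟨u, hu, hFu.1.2⟩
  have d₃ := finrank_inf_ker P hP l₃ ⟨u, hu, hFu.2⟩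
  refine ⟨P ⊓ LinearMap.ker l₁, P ⊓ LinearMap.ker l₂, P ⊓ LinearMap.ker l₃,
    ⟨inf_le_left, inf_le_left, inf_le_left⟩, ⟨⟨d₁, ?_⟩, ⟨d₂, ?_⟩, ⟨d₃, ?_⟩⟩, fun v hv hF => ?_, fun U hU hle => ?_⟩
  · rintro v ⟨hv, hv'⟩; rw [hl v hv, LinearMap.mem_ker.1 hv', zero_mul, zero_mul]
  · rintro v ⟨hv, hv'⟩; rw [hl v hv, LinearMap.mem_ker.1 hv', mul_zero, zero_mul]
  · rintro v ⟨hv, hv'⟩; rw [hl v hv, LinearMap.mem_ker.1 hv', mul_zero]
  · rw [hl v hv, mul_eq_zero, mul_eq_zero] at hF
    rcases hF with (h | h) | h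
    · exact Or.inl ⟨hv, h⟩
    · exact Or.inr (Or.inl ⟨hv, h⟩)
    · exact Or.inr (Or.inr ⟨hv, h⟩)
  · rcases vanish_of_prod U l₁ l₂ l₃ (fun v hv => (hl v (hle hv)).symm.trans (hU.2 v hv)) with h | h | h
    · exact Or.inl (Submodule.eq_of_le_of_finrank_eq (le_inf hle h) (by rw [hU.1, d₁]))
    · exact Or.inr (Or.inl (Submodule.eq_of_le_of_finrank_eq (le_inf hle h) (by rw [hU.1, d₂])))
    · exact Or.inr (Or.inr (Submodule.eq_of_le_of_finrank_eq (le_inf hle h) (by rw [hU.1, d₃])))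

namespace LineData

variable [CharZero K] {D : LineData G} {w : Fin 4 → K}

theorem isLine_L (D : LineData G) : IsLine G D.L := by
  refine ⟨?_, fun u hu => ?_⟩
  · have hli : LinearIndependent K ![D.bas 0, D.bas 1] := by
      have e : ![D.bas 0, D.bas 1] = D.bas ∘ ![0, 1] := by funext i; fin_cases i <;> rfl
      rw [e]; exact D.bas.linearIndependent.comp _ (by decide)
    rw [L, ← Matrix.range_cons_cons_empty (D.bas 0) (D.bas 1) ![], finrank_span_eq_card hli, Fintype.card_fin]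
  · obtain ⟨s, t, rfl⟩ := Submodule.mem_span_pair.1 hu
    exact D.onLine s t

theorem finrank_plane (hw : Indep D w) : finrank K (LinearMap.range (D.ptL w)) = 3 := by
  rw [LinearMap.finrank_range_of_inj (ptL_injective hw), Module.finrank_fin_fun]

theorem L_le_plane (D : LineData G) (w : Fin 4 → K) : D.L ≤ LinearMap.range (D.ptL w) :=
  Submodule.span_le.2 (by
    rintro _ (rfl | rfl)
    · exact ⟨![1, 0, 0], by show D.pt _ _ = _; simp [pt]⟩
    · exact ⟨![0, 1, 0], by show D.pt _ _ = _; simp [pt]⟩)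

/-- A degenerate conic gives a triple section. -/
theorem isTriple_of_det [IsAlgClosed K] (hw : Indep D w) (h : (D.M w).det = 0) :
    IsTriple G (LinearMap.range (D.ptL w)) := by
  obtain ⟨v, hv, hMv⟩ := exists_kernel h
  obtain ⟨P, hPd, hP⟩ := exists_completion hv
  obtain ⟨hz, hsy⟩ := degenerate_form hMv P hP
  set N := P.transpose * D.M w * P with hN
  obtain ⟨c, p, q, p', q', hfac⟩ : ∃ c p q p' q' : K, ∀ y₀ y₁ : K,
      N 0 0 * y₀ ^ 2 + 2 * N 0 1 * y₀ * y₁ + N 1 1 * y₁ ^ 2 = c * (p * y₀ + q * y₁) * (p' * y₀ + q' * y₁) := by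
    rcases eq_or_ne (N 0 0) 0 with h0 | h0
    · exact ⟨1, 0, 1, 2 * N 0 1, N 1 1, fun y₀ y₁ => by rw [h0]; ring⟩
    · obtain ⟨z, hz⟩ := Cubic.exists_root_quadratic (N 0 0) (2 * N 0 1) (N 1 1) h0
      refine ⟨N 0 0, 1, -z, 1, (N 0 0 * z + 2 * N 0 1) / N 0 0, fun y₀ y₁ => ?_⟩
      field_simp
      linear_combination (y₁ ^ 2) * hz
  obtain ⟨inv, hinv⟩ := (D.ptL w).exists_leftInverse_of_injective (LinearMap.ker_eq_bot.2 (ptL_injective hw))
  let Y : Fin 3 → ((Fin 3 → K) →ₗ[K] K) := fun i => (LinearMap.proj i).comp (P⁻¹).mulVecLin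
  refine ⟨((LinearMap.proj 2 : (Fin 3 → K) →ₗ[K] K)).comp inv, ((c / 2) • (p • Y 0 + q • Y 1)).comp inv,
    (p' • Y 0 + q' • Y 1).comp inv, ?_⟩
  rintro _ ⟨u, rfl⟩
  have hiu : inv (D.ptL w u) = u := LinearMap.congr_fun hinv u
  simp only [LinearMap.comp_apply, hiu]
  have hquad : D.quad w u = c * (p * Y 0 u + q * Y 1 u) * (p' * Y 0 u + q' * Y 1 u) := by
    have hu : u = P.mulVec (P⁻¹.mulVec u) := by
      rw [Matrix.mulVec_mulVec, Matrix.mul_nonsing_inv _ (isUnit_iff_ne_zero.2 hPd), Matrix.one_mulVec]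
    conv_lhs => rw [hu]
    rw [D.quad_mulVec, ← hN, ← hfac]
    simp only [Y, LinearMap.comp_apply, Matrix.mulVecLin_apply, LinearMap.proj_apply, Matrix.mulVec, dotProduct,
      Fin.sum_univ_three, (hz 0).1, (hz 1).1, (hz 2).1, (hz 0).2, (hz 1).2, ← hsy]
    ring
  have := D.F_pt w u
  rw [hquad] at this
  show G.F (D.pt w u) = _
  simp only [LinearMap.smul_apply, LinearMap.add_apply, LinearMap.proj_apply, smul_eq_mul]
  linear_combination (2⁻¹ : K) * this

theorem dot_polar (a v : Fin 3 → K) :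
    D.quad w (a + v) = D.quad w a + D.quad w v + 2 * dotProduct a ((D.M w).mulVec v) := by
  simp [quad, M, Matrix.mulVec, dotProduct, Fin.sum_univ_three]
  ring

theorem quad_smul (c : K) (v : Fin 3 → K) : D.quad w (c • v) = c ^ 2 * D.quad w v := by
  simp [D.quad_eq]
  ring

/-- the derivative of the form in the plane -/
theorem polar_pt (v e : Fin 3 → K) :
    6 * G.T (D.pt w v) (D.pt w v) (D.pt w e) =
      e 2 * D.quad w v + 2 * v 2 * dotProduct e ((D.M w).mulVec v) := by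
  have h1 := D.F_pt w (v + (1 : K) • e)
  have h2 := D.F_pt w (v + (-1 : K) • e)
  have h3 := D.F_pt w e
  rw [pt_add_smul, G.F_add_smul, add_comm v, dot_polar, quad_smul] at h1 h2
  simp only [smul_dotProduct, smul_eq_mul, Pi.add_apply, Pi.smul_apply] at h1 h2
  linear_combination (1 / 2 : K) * h1 - (1 / 2 : K) * h2 - h3

theorem exists_eq_pt {x : Fin 4 → K} (hx : x ∈ LinearMap.range (D.ptL w)) : ∃ v, D.pt w v = x := hx

theorem pt_mem_plane (v : Fin 3 → K) : D.pt w v ∈ LinearMap.range (D.ptL w) := ⟨v, rfl⟩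

theorem mem_L_iff (hw : Indep D w) (v : Fin 3 → K) : D.pt w v ∈ D.L ↔ v 2 = 0 := by
  refine ⟨fun h => ?_, fun h => Submodule.mem_span_pair.2 ⟨v 0, v 1, by simp [pt, h]⟩⟩
  obtain ⟨s, t, hst⟩ := Submodule.mem_span_pair.1 h
  have := hw (v - ![s, t, 0]) (by
    show D.ptL w (v - ![s, t, 0]) = 0
    rw [map_sub, sub_eq_zero]
    show D.pt w v = D.pt w ![s, t, 0]
    rw [← hst]; simp [pt])
  simpa using congrFun this 2

/-- A triple section has a degenerate conic. -/
theorem det_eq_zero_of_triple [IsAlgClosed K] (hnp : NoPlane G) (hw : Indep D w)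
    (h : IsTriple G (LinearMap.range (D.ptL w))) : (D.M w).det = 0 := by
  obtain ⟨K₁, K₂, K₃, hle, hln, hsec, -⟩ := triple_lines hnp (finrank_plane hw) h
  by_contra hdet
  have heq : ∀ U, IsLine G U → U ≤ LinearMap.range (D.ptL w) → U = D.L := fun U hU hUle => by
    by_contra hne
    exact hdet (det_eq_zero_of_line hw U hU hne hUle)
  rw [heq K₁ hln.1 hle.1, heq K₂ hln.2.1 hle.2.1, heq K₃ hln.2.2 hle.2.2] at hsec
  -- the conic has no zero off the line
  have hz : ∀ u, D.quad w u = 0 → u 2 = 0 := by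
    intro u hu
    have hF : G.F (D.pt w u) = 0 := by simpa [hu] using D.F_pt w u
    exact (mem_L_iff hw u).1 (by simpa using hsec _ (pt_mem_plane u) hF)
  obtain ⟨v, hv, hv2, hqv⟩ : ∃ v : Fin 3 → K, v ≠ 0 ∧ v 2 = 0 ∧ D.quad w v = 0 := by
    rcases eq_or_ne (G.T (D.bas 0) (D.bas 0) w) 0 with h0 | h0
    · exact ⟨![1, 0, 0], fun h => one_ne_zero (congrFun h 0), rfl, by simp [D.quad_eq, h0]⟩
    · obtain ⟨z, hz⟩ := Cubic.exists_root_quadratic _ (2 * G.T (D.bas 0) (D.bas 1) w) (G.T (D.bas 1) (D.bas 1) w) h0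
      exact ⟨![z, 1, 0], fun h => one_ne_zero (congrFun h 1), rfl, by
        simp [D.quad_eq]; linear_combination (6 : K) * hz⟩
  -- so the line through a point of the conic is tangent to it
  have hdot : ∀ u : Fin 3 → K, u 2 ≠ 0 → dotProduct u ((D.M w).mulVec v) = 0 := by
    intro u hu
    by_contra hne
    have hqu : D.quad w u ≠ 0 := fun hq => hu (hz u hq)
    have := hz ((-2 * dotProduct u ((D.M w).mulVec v) / D.quad w u) • u + v) (by
      rw [dot_polar, quad_smul, hqv, smul_dotProduct, smul_eq_mul]; field_simp; ring)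
    simp [hv2, hu, hne, hqu] at this
  refine hdet (Matrix.exists_mulVec_eq_zero_iff.1 ⟨v, hv, funext fun i => ?_⟩)
  have h2 := hdot (Pi.single 2 1) (by simp)
  have hi := hdot (Pi.single 2 1 + Pi.single i 1) (by fin_cases i <;> simp)
  simpa [add_dotProduct, h2] using hi

/-- Two adapted coordinate systems cover every plane through the line. -/
theorem exists_wv [IsAlgClosed K] {P : Submodule K (Fin 4 → K)} (hP : finrank K P = 3) (D : LineData G) (hLP : D.L ≤ P) :
    ∃ D' : LineData G, D'.L = D.L ∧ ∃ s, P = D'.plane (D'.wv s) := by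
  rcases D.plane_eq_of_ge hP hLP with h | ⟨s, h⟩
  · let D' : LineData G := ⟨D.bas.reindex (Equiv.swap 2 3), fun s t => by
      simpa [Equiv.swap_apply_def] using D.onLine s t⟩
    have e0 : D'.bas 0 = D.bas 0 := by simp [D', Equiv.swap_apply_def]
    have e1 : D'.bas 1 = D.bas 1 := by simp [D', Equiv.swap_apply_def]
    have e3 : D'.bas 3 = D.bas 2 := by simp [D', Equiv.swap_apply_def]
    have hpt : D'.ptL (D'.wv 0) = D.ptL (D.bas 2) := LinearMap.ext fun v => by
      show D'.pt _ v = D.pt _ v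
      simp [pt, wv, e0, e1, e3]
    exact ⟨D', by simp [L, e0, e1], 0, by rw [plane, hpt]; exact h⟩
  · exact ⟨D, rfl, s, h⟩

end LineData

open LineData

variable [CharZero K] [IsAlgClosed K]

theorem finite_lines_in_plane (hnp : NoPlane G) {P : Submodule K (Fin 4 → K)} (hP : finrank K P = 3) :
    {U | IsLine G U ∧ U ≤ P}.Finite := by
  classical
  by_cases hex : ∃ L, IsLine G L ∧ L ≤ P
  · obtain ⟨L, hL, hLP⟩ := hex
    obtain ⟨D₀, rfl⟩ := LineData.exists_of_line G L hL.1 hL.2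
    obtain ⟨D, hDL, s, rfl⟩ := LineData.exists_wv hP D₀ hLP
    rw [← hDL] at hL hLP
    by_cases hd : (D.M (D.wv s)).det = 0
    · obtain ⟨K₁, K₂, K₃, -, -, -, hu⟩ := triple_lines hnp hP (isTriple_of_det (D.indep_wv s) hd)
      exact Set.Finite.subset (Set.toFinite {K₁, K₂, K₃}) fun U hU => by
        rcases hu U hU.1 hU.2 with rfl | rfl | rfl <;> simp
    · exact Set.Finite.subset (Set.finite_singleton D.L) fun U hU => by
        by_contra hne
        exact hd (det_eq_zero_of_line (D.indep_wv s) U hU.1 hne hU.2)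
  · exact Set.Finite.subset Set.finite_empty fun U hU => hex ⟨U, hU⟩

theorem disc_eq_zero_of_infinite (hnp : NoPlane G) (D : LineData G) (h : (meeting G D.L).Infinite) :
    D.disc = 0 := by
  classical
  by_contra hd
  refine h (Set.Finite.subset (((finite_lines_in_plane hnp (finrank_plane D.indep_z1))).union
    (D.disc.roots.toFinset.finite_toSet.biUnion fun s _ => finite_lines_in_plane hnp (finrank_plane (D.indep_wv s)))) ?_)
  rintro U ⟨hU, hne, hmeet⟩
  have hL := isLine_L D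
  have h3 : finrank K (U ⊔ D.L : Submodule K (Fin 4 → K)) = 3 := by
    have h1 := Submodule.finrank_sup_add_finrank_inf_eq U D.L
    have h2 : finrank K (U ⊓ D.L : Submodule K (Fin 4 → K)) ≠ 0 :=
      fun h0 => hmeet (Submodule.finrank_eq_zero.1 h0)
    have hlt : U ⊓ D.L < U := lt_of_le_of_ne inf_le_left fun he =>
      hne (Submodule.eq_of_le_of_finrank_eq (inf_eq_left.1 he) (by rw [hU.1, hL.1]))
    have := Submodule.finrank_lt_finrank_of_lt hlt
    rw [hU.1, hL.1] at h1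
    rw [hU.1] at this
    omega
  rcases D.plane_eq_of_ge h3 le_sup_right with he | ⟨s, he⟩
  · exact Or.inl ⟨hU, le_sup_left.trans he.le⟩
  · have hs := det_eq_zero_of_line (D.indep_wv s) U hU hne (le_sup_left.trans he.le)
    refine Or.inr (Set.mem_iUnion₂.2 ⟨s, ?_, hU, le_sup_left.trans he.le⟩)
    rw [Finset.mem_coe, Multiset.mem_toFinset, Polynomial.mem_roots hd, Polynomial.IsRoot, D.disc_eval]
    exact hs

/-- Through a line met by infinitely many lines all planes are degenerate. -/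
theorem isTriple_of_infinite (hnp : NoPlane G) {L P : Submodule K (Fin 4 → K)} (hL : IsLine G L)
    (h : (meeting G L).Infinite) (hP : finrank K P = 3) (hLP : L ≤ P) : IsTriple G P := by
  obtain ⟨D₀, rfl⟩ := LineData.exists_of_line G L hL.1 hL.2
  obtain ⟨D, hDL, s, rfl⟩ := LineData.exists_wv hP D₀ hLP
  refine isTriple_of_det (D.indep_wv s) ?_
  rw [← D.disc_eval, disc_eq_zero_of_infinite hnp D (hDL ▸ h), Polynomial.eval_zero]

theorem finite_meeting (hnp : NoPlane G) {L P : Submodule K (Fin 4 → K)} (hL : IsLine G L)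
    (hP : finrank K P = 3) (hLP : L ≤ P) (hnt : ¬ IsTriple G P) : (meeting G L).Finite :=
  Set.not_infinite.1 fun h => hnt (isTriple_of_infinite hnp hL h hP hLP)

/-- Finitely many degenerate planes contain a line of a nondegenerate one. -/
theorem finite_triple_planes (hnp : NoPlane G) {L P : Submodule K (Fin 4 → K)} (hL : IsLine G L)
    (hP : finrank K P = 3) (hLP : L ≤ P) (hnt : ¬ IsTriple G P) :
    {Q : Submodule K (Fin 4 → K) | finrank K Q = 3 ∧ L ≤ Q ∧ IsTriple G Q}.Finite := by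
  classical
  obtain ⟨D₀, rfl⟩ := LineData.exists_of_line G L hL.1 hL.2
  obtain ⟨D, hDL, s₀, rfl⟩ := LineData.exists_wv hP D₀ hLP
  have hd : D.disc ≠ 0 := fun h0 => hnt (isTriple_of_det (D.indep_wv s₀) (by
    rw [← D.disc_eval, h0, Polynomial.eval_zero]))
  refine Set.Finite.subset ((Set.finite_singleton (D.plane (D.bas 2))).union
    (D.disc.roots.toFinset.finite_toSet.image fun s => D.plane (D.wv s))) ?_
  rintro Q ⟨hQ, hLQ, htr⟩
  rcases D.plane_eq_of_ge hQ (hDL ▸ hLQ) with he | ⟨s, rfl⟩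
  · exact Or.inl he
  · refine Or.inr ⟨s, ?_, rfl⟩
    rw [Finset.mem_coe, Multiset.mem_toFinset, Polynomial.mem_roots hd, Polynomial.IsRoot, D.disc_eval]
    exact det_eq_zero_of_triple hnp (D.indep_wv s) htr

omit [CharZero K] in
/-- the rays on which a nonzero binary quadratic form vanishes -/
theorem finite_rays (x y : Fin 4 → K) (A B C : K) (h : A ≠ 0 ∨ B ≠ 0 ∨ C ≠ 0) :
    {U : Submodule K (Fin 4 → K) | ∃ s t : K, s • x + t • y ≠ 0 ∧ A * s ^ 2 + B * s * t + C * t ^ 2 = 0 ∧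
      U = Submodule.span K {s • x + t • y}}.Finite := by
  classical
  let p : Polynomial K := Polynomial.C A * Polynomial.X ^ 2 + Polynomial.C B * Polynomial.X + Polynomial.C C
  have hp : p ≠ 0 := fun h0 => by
    have c0 := congrArg (Polynomial.coeff · 0) h0
    have c1 := congrArg (Polynomial.coeff · 1) h0
    have c2 := congrArg (Polynomial.coeff · 2) h0
    simp [p] at c0 c1 c2
    tauto
  refine Set.Finite.subset ((Set.finite_singleton (Submodule.span K {x})).union
    (p.roots.toFinset.finite_toSet.image fun r => Submodule.span K {r • x + y})) ?_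
  rintro U ⟨s, t, hne, hq, rfl⟩
  rcases eq_or_ne t 0 with rfl | ht
  · left
    rw [zero_smul, add_zero] at hne ⊢
    exact Submodule.span_singleton_smul_eq (isUnit_iff_ne_zero.2 (smul_ne_zero_iff.1 hne).1) x
  · refine Or.inr ⟨s / t, ?_, ?_⟩
    · rw [Finset.mem_coe, Multiset.mem_toFinset, Polynomial.mem_roots hp]
      simp [p]
      field_simp
      linear_combination hq
    · have e : s • x + t • y = t • ((s / t) • x + y) := by
        rw [smul_add, smul_smul, mul_div_cancel₀ _ ht]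
      show Submodule.span K {(s / t) • x + y} = _
      rw [e, Submodule.span_singleton_smul_eq (isUnit_iff_ne_zero.2 ht)]

omit [CharZero K] [IsAlgClosed K] in
theorem finrank_ker_three {l : (Fin 4 → K) →ₗ[K] K} (hl : l ≠ 0) : finrank K (LinearMap.ker l) = 3 := by
  have h1 := LinearMap.finrank_range_add_finrank_ker l
  rw [LinearMap.range_eq_top.2 (LinearMap.surjective hl), finrank_top, Module.finrank_self,
    Module.finrank_fin_fun] at h1
  omega

omit [CharZero K] [IsAlgClosed K] in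
theorem span_eq_of_finrank_one {U : Submodule K (Fin 4 → K)} (hU : finrank K U = 1) :
    ∃ b ∈ U, b ≠ 0 ∧ U = Submodule.span K {b} := by
  obtain ⟨b, hb, hb0⟩ := (Submodule.ne_bot_iff U).1 fun h => by rw [h, finrank_bot] at hU; omega
  exact ⟨b, hb, hb0, (Submodule.eq_of_le_of_finrank_eq ((Submodule.span_singleton_le_iff_mem b U).2 hb)
    (by rw [finrank_span_singleton hb0, hU])).symm⟩

omit [IsAlgClosed K] in
theorem line_le_tangent {U : Submodule K (Fin 4 → K)} (hU : IsLine G U) {b : Fin 4 → K} (hb : b ∈ U) :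
    U ≤ LinearMap.ker (G.T b b) := fun _ hv => LinearMap.mem_ker.2 (G.T_eq_zero_of_F hU.2 hb hb hv)

section Main

variable {a : Fin 4 → K}

/-- A line met by infinitely many lines meets a line of a nondegenerate tangent section. -/
theorem special_meets (hnp : NoPlane G) (haF : G.T a a a = 0) (hha : G.T a a ≠ 0)
    (hnt : ¬ IsTriple G (LinearMap.ker (G.T a a))) {M : Submodule K (Fin 4 → K)} (hM : IsLine G M)
    (hinf : (meeting G M).Infinite) :
    ∃ L₀, (IsLine G L₀ ∧ L₀ ≤ LinearMap.ker (G.T a a)) ∧ M ∈ meeting G L₀ := by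
  have hMH : ¬ M ≤ LinearMap.ker (G.T a a) := fun h =>
    hnt (isTriple_of_infinite hnp hM hinf (finrank_ker_three hha) h)
  have haM : a ∉ M := fun h => hMH (line_le_tangent hM h)
  have ha0 : a ≠ 0 := fun h => hha (by simp [h])
  have hd : M ⊓ Submodule.span K {a} = ⊥ := eq_bot_iff.2 fun z hz => by
    obtain ⟨c, rfl⟩ := Submodule.mem_span_singleton.1 hz.2
    rcases eq_or_ne c 0 with rfl | hc
    · simp
    · exact absurd ((Submodule.smul_mem_iff M hc).1 hz.1) haM
  have hQ : finrank K ↥(M ⊔ Submodule.span K {a}) = 3 := by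
    have h := Submodule.finrank_sup_add_finrank_inf_eq M (Submodule.span K {a})
    rw [hd, finrank_bot, hM.1, finrank_span_singleton ha0] at h
    omega
  have haQ : a ∈ M ⊔ Submodule.span K {a} := Submodule.mem_sup_right (Submodule.mem_span_singleton_self a)
  obtain ⟨K₁, K₂, K₃, hle, hln, hsec, -⟩ :=
    triple_lines hnp hQ (isTriple_of_infinite hnp hM hinf hQ le_sup_left)
  obtain ⟨R, haR, hR, hRQ⟩ : ∃ R, a ∈ R ∧ IsLine G R ∧ R ≤ M ⊔ Submodule.span K {a} := by
    rcases hsec a haQ haF with h | h | h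
    · exact ⟨K₁, h, hln.1, hle.1⟩
    · exact ⟨K₂, h, hln.2.1, hle.2.1⟩
    · exact ⟨K₃, h, hln.2.2, hle.2.2⟩
  exact ⟨R, ⟨hR, line_le_tangent hR haR⟩, hM, fun he => haM (he ▸ haR),
    inf_ne_bot_of_le le_sup_left hRQ (by rw [hQ, hM.1, hR.1]; omega)⟩

/-- The tangency point lies on every line of the tangent section. -/
theorem mem_line (hnp : NoPlane G) (haF : G.T a a a = 0) (hha : G.T a a ≠ 0)
    (hnt : ¬ IsTriple G (LinearMap.ker (G.T a a))) {L₀ : Submodule K (Fin 4 → K)} (hL : IsLine G L₀)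
    (hLH : L₀ ≤ LinearMap.ker (G.T a a)) : a ∈ L₀ := by
  obtain ⟨D₀, rfl⟩ := LineData.exists_of_line G L₀ hL.1 hL.2
  obtain ⟨D, hDL, s, hP⟩ := LineData.exists_wv (finrank_ker_three hha) D₀ hLH
  by_contra haL
  rw [hP, plane] at hnt
  obtain ⟨v, hv⟩ := LineData.exists_eq_pt (show a ∈ LinearMap.range (D.ptL (D.wv s)) from
    (show LinearMap.ker (G.T a a) = LinearMap.range (D.ptL (D.wv s)) from hP) ▸ LinearMap.mem_ker.2 haF)
  have hv2 : v 2 ≠ 0 := fun h => haL (hDL ▸ hv ▸ (mem_L_iff (D.indep_wv s) v).2 h)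
  have hq : D.quad (D.wv s) v = 0 := by
    have := D.F_pt (D.wv s) v
    rw [hv, show G.F a = 0 from haF, mul_zero] at this
    exact (mul_eq_zero.1 this.symm).resolve_left hv2
  refine hnt (isTriple_of_det (D.indep_wv s) (Matrix.exists_mulVec_eq_zero_iff.1
    ⟨v, fun h => hv2 (by rw [h]; rfl), funext fun i => ?_⟩))
  have hi := polar_pt (D := D) (w := D.wv s) v (Pi.single i 1)
  have hmem : D.pt (D.wv s) (Pi.single i 1) ∈ LinearMap.ker (G.T a a) := hP ▸ pt_mem_plane _
  rw [hv, LinearMap.mem_ker.1 hmem, hq] at hi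
  simpa [hv2] using hi.symm

/-- Finitely many T-points on a line of a nondegenerate tangent section. -/
theorem finite_on_line (hnp : NoPlane G) (haF : G.T a a a = 0) (hha : G.T a a ≠ 0)
    (hnt : ¬ IsTriple G (LinearMap.ker (G.T a a))) {L₀ : Submodule K (Fin 4 → K)} (hL : IsLine G L₀)
    (hLH : L₀ ≤ LinearMap.ker (G.T a a)) :
    {U : Submodule K (Fin 4 → K) | finrank K U = 1 ∧ U ≤ L₀ ∧ ∀ b ∈ U, b ≠ 0 → IsTPt G b}.Finite := by
  classical
  have haL := mem_line hnp haF hha hnt hL hLH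
  have ha0 : a ≠ 0 := fun h => hha (by simp [h])
  obtain ⟨a', ha', hspan⟩ : ∃ a' ∈ L₀, ∀ b ∈ L₀, ∃ s t : K, s • a + t • a' = b := by
    obtain ⟨a', ha', hne⟩ := SetLike.exists_of_lt (lt_of_le_of_ne
      ((Submodule.span_singleton_le_iff_mem a L₀).2 haL) fun h => by
        have := hL.1; rw [← h, finrank_span_singleton ha0] at this; omega)
    refine ⟨a', ha', fun b hb => Submodule.mem_span_pair.1 ?_⟩
    have hlt : Submodule.span K {a} < Submodule.span K {a, a'} := lt_of_le_of_ne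
      (Submodule.span_mono (by simp)) fun h => hne (h ▸ Submodule.subset_span (by simp))
    have := Submodule.finrank_lt_finrank_of_lt hlt
    rw [finrank_span_singleton ha0] at this
    rwa [Submodule.eq_of_le_of_finrank_le (S₁ := Submodule.span K {a, a'}) (S₂ := L₀)
      (Submodule.span_le.2 (by rintro z (rfl | rfl) <;> assumption)) (by rw [hL.1]; omega)]
  refine Set.Finite.subset (Set.Finite.biUnion (finite_triple_planes hnp hL (finrank_ker_three hha) hLH hnt)
    fun Q hQ => (?_ : {U : Submodule K (Fin 4 → K) | finrank K U = 1 ∧ U ≤ L₀ ∧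
      ∀ b ∈ U, ∀ h ∈ Q, G.T b b h = 0}.Finite)) ?_
  · obtain ⟨hQ3, -, hQt⟩ := hQ
    obtain ⟨h, hh, hne⟩ : ∃ h ∈ Q, G.T a a h ≠ 0 := by
      by_contra! hall
      exact hnt (Submodule.eq_of_le_of_finrank_eq (S₂ := LinearMap.ker (G.T a a))
        (fun z hz => LinearMap.mem_ker.2 (hall z hz)) (by rw [hQ3, finrank_ker_three hha]) ▸ hQt)
    refine Set.Finite.subset (finite_rays a a' _ (2 * G.T a a' h) (G.T a' a' h) (Or.inl hne)) ?_
    rintro U ⟨hU, hUL, hzero⟩
    obtain ⟨b, hb, hb0, rfl⟩ := span_eq_of_finrank_one hU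
    obtain ⟨s, t, rfl⟩ := hspan b (hUL hb)
    refine ⟨s, t, hb0, ?_, rfl⟩
    have := hzero _ hb h hh
    simp only [map_add, map_smul, LinearMap.add_apply, LinearMap.smul_apply, smul_eq_mul, G.symm₁₂ a' a h] at this
    linear_combination this
  · rintro U ⟨hU, hUL, hT⟩
    obtain ⟨b, hb, hb0, hUb⟩ := span_eq_of_finrank_one hU
    obtain ⟨-, hF, hbb, htr⟩ := hT b hb hb0
    refine Set.mem_iUnion₂.2 ⟨LinearMap.ker (G.T b b),
      ⟨finrank_ker_three hbb, line_le_tangent hL (hUL hb), htr⟩, hU, hUL, fun c hc z hz => ?_⟩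
    rw [hUb] at hc
    obtain ⟨r, rfl⟩ := Submodule.mem_span_singleton.1 hc
    simp [LinearMap.mem_ker.1 hz]

/-- For a fixed special line there are finitely many T-points off the lines of the tangent section. -/
theorem finite_fixed (hha : G.T a a ≠ 0)
    (hnt : ¬ IsTriple G (LinearMap.ker (G.T a a))) {L₀ M : Submodule K (Fin 4 → K)} (hL : IsLine G L₀)
    (hLH : L₀ ≤ LinearMap.ker (G.T a a)) (hM : M ∈ meeting G L₀) :
    {U : Submodule K (Fin 4 → K) | finrank K U = 1 ∧ U ≤ LinearMap.ker (G.T a a) ∧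
      ∃ b ∈ U, G.F b = 0 ∧ b ∉ L₀ ∧ M ≤ LinearMap.ker (G.T b b)}.Finite := by
  classical
  obtain ⟨D₀, rfl⟩ := LineData.exists_of_line G L₀ hL.1 hL.2
  obtain ⟨D, hDL, s, hP⟩ := LineData.exists_wv (finrank_ker_three hha) D₀ hLH
  rw [← hDL] at hM hLH ⊢
  obtain ⟨q, hq, hq0⟩ := (Submodule.ne_bot_iff _).1 hM.2.2
  rw [hP, plane] at hnt ⊢
  set w := D.wv s
  have hw : Indep D w := D.indep_wv s
  obtain ⟨e, rfl⟩ := LineData.exists_eq_pt (L_le_plane D w hq.2)
  have he2 := (mem_L_iff hw e).1 hq.2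
  have hdet : (D.M w).det ≠ 0 := fun h => hnt (isTriple_of_det hw h)
  -- the polar line of the meeting point
  let φ : (Fin 3 → K) →ₗ[K] K :=
    { toFun := fun v => dotProduct e ((D.M w).mulVec v)
      map_add' := fun a b => by simp [Matrix.mulVec_add, dotProduct_add]
      map_smul' := fun c a => by simp [Matrix.mulVec_smul, dotProduct_smul] }
  have hφ : φ ≠ 0 := by
    intro h0
    refine hq0 ?_
    have : e = 0 := Matrix.eq_zero_of_vecMul_eq_zero hdet (funext fun i => by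
      have := LinearMap.congr_fun h0 (Pi.single i 1)
      simpa [φ, Matrix.dotProduct_mulVec, Matrix.mulVec] using this)
    subst this
    simp [pt]
  have hker : finrank K (LinearMap.ker φ) = 2 := by
    have h1 := LinearMap.finrank_range_add_finrank_ker φ
    rw [LinearMap.range_eq_top.2 (LinearMap.surjective hφ), finrank_top, Module.finrank_self,
      Module.finrank_fin_fun] at h1
    omega
  let b := Module.finBasisOfFinrankEq K (LinearMap.ker φ) hker
  set x : Fin 3 → K := (b 0 : Fin 3 → K) with hx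
  set y : Fin 3 → K := (b 1 : Fin 3 → K) with hy
  set A := D.quad w x
  set B := 2 * dotProduct x ((D.M w).mulVec y)
  set C := D.quad w y
  have hexp : ∀ s t : K, D.quad w (s • x + t • y) = A * s ^ 2 + B * s * t + C * t ^ 2 := fun s t => by
    rw [dot_polar, quad_smul, quad_smul, Matrix.mulVec_smul, smul_dotProduct, dotProduct_smul, smul_eq_mul,
      smul_eq_mul]
    ring
  have hdec : ∀ v, φ v = 0 → ∃ s t : K, s • x + t • y = v := fun v hv => by
    have h := congrArg (fun z : LinearMap.ker φ => (z : Fin 3 → K)) (b.sum_repr ⟨v, hv⟩)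
    rw [Fin.sum_univ_two] at h
    simp only [Submodule.coe_add, Submodule.coe_smul] at h
    exact ⟨_, _, h⟩
  by_cases hne : A ≠ 0 ∨ B ≠ 0 ∨ C ≠ 0
  · refine Set.Finite.subset (finite_rays (D.ptL w x) (D.ptL w y) A B C hne) ?_
    rintro U ⟨hU, hUH, c, hc, hFc, hcL, hMc⟩
    obtain ⟨v, rfl⟩ := LineData.exists_eq_pt (hUH hc)
    have hv2 : v 2 ≠ 0 := fun h => hcL ((mem_L_iff hw v).2 h)
    have hqv : D.quad w v = 0 := by
      have := D.F_pt w v
      rw [hFc, mul_zero] at this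
      exact (mul_eq_zero.1 this.symm).resolve_left hv2
    have hφv : φ v = 0 := by
      have hi := polar_pt (D := D) (w := w) v e
      rw [LinearMap.mem_ker.1 (hMc hq.1), hqv, he2] at hi
      simpa [hv2, φ] using hi.symm
    obtain ⟨s, t, rfl⟩ := hdec v hφv
    have e' : D.pt w (s • x + t • y) = s • D.ptL w x + t • D.ptL w y := by
      show D.ptL w _ = _; rw [map_add, map_smul, map_smul]
    have hc0 : D.pt w (s • x + t • y) ≠ 0 := fun h => hcL (h ▸ zero_mem _)
    refine ⟨s, t, e' ▸ hc0, by rw [← hexp]; exact hqv, ?_⟩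
    rw [← e']
    exact (Submodule.eq_of_le_of_finrank_eq ((Submodule.span_singleton_le_iff_mem _ U).2 hc)
      (by rw [finrank_span_singleton hc0, hU])).symm
  · -- otherwise the polar line would be a line of the surface
    refine Set.Finite.subset Set.finite_empty ?_
    rintro U ⟨hU, hUH, c, hc, hFc, hcL, hMc⟩
    push Not at hne
    refine hdet (det_eq_zero_of_line hw ((LinearMap.ker φ).map (D.ptL w)) ⟨?_, ?_⟩ (fun he => ?_)
      LinearMap.map_le_range)
    · rw [← (Submodule.equivMapOfInjective _ (ptL_injective hw) _).finrank_eq, hker]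
    · rintro _ ⟨v, hv, rfl⟩
      obtain ⟨s, t, rfl⟩ := hdec v hv
      have := D.F_pt w (s • x + t • y)
      rw [hexp, hne.1, hne.2.1, hne.2.2] at this
      show G.F (D.pt w _) = 0
      simpa using this
    · obtain ⟨v, rfl⟩ := LineData.exists_eq_pt (hUH hc)
      have hv2 : v 2 ≠ 0 := fun h => hcL ((mem_L_iff hw v).2 h)
      have hqv : D.quad w v = 0 := by
        have := D.F_pt w v
        rw [hFc, mul_zero] at this
        exact (mul_eq_zero.1 this.symm).resolve_left hv2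
      have hi := polar_pt (D := D) (w := w) v e
      rw [LinearMap.mem_ker.1 (hMc hq.1), hqv, he2] at hi
      exact hcL (he ▸ ⟨v, LinearMap.mem_ker.2 (by simpa [hv2, φ] using hi.symm), rfl⟩)

/-- A tangent plane at a point which is not a T-point contains finitely many T-points. -/
theorem finite_TPts (hnp : NoPlane G) (haF : G.T a a a = 0) (hha : G.T a a ≠ 0)
    (hnt : ¬ IsTriple G (LinearMap.ker (G.T a a))) :
    {U : Submodule K (Fin 4 → K) | finrank K U = 1 ∧ U ≤ LinearMap.ker (G.T a a) ∧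
      ∀ b ∈ U, b ≠ 0 → IsTPt G b}.Finite := by
  classical
  set H := LinearMap.ker (G.T a a) with hH
  have hH3 : finrank K H = 3 := finrank_ker_three hha
  have hlinesH := finite_lines_in_plane hnp hH3
  -- the T-points off the lines of the section
  suffices hoff : {U : Submodule K (Fin 4 → K) | finrank K U = 1 ∧ U ≤ H ∧
      (∀ b ∈ U, b ≠ 0 → IsTPt G b) ∧ ∀ L₀, IsLine G L₀ → L₀ ≤ H → ¬ U ≤ L₀}.Finite by
    refine Set.Finite.subset (hoff.union (hlinesH.biUnion fun L₀ hL =>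
      finite_on_line hnp haF hha hnt hL.1 hL.2)) fun U hU => ?_
    by_cases hex : ∃ L₀, IsLine G L₀ ∧ L₀ ≤ H ∧ U ≤ L₀
    · obtain ⟨L₀, h1, h2, h3⟩ := hex
      exact Or.inr (Set.mem_iUnion₂.2 ⟨L₀, ⟨h1, h2⟩, hU.1, h3, hU.2.2⟩)
    · exact Or.inl ⟨hU.1, hU.2.1, hU.2.2, fun L₀ h1 h2 h3 => hex ⟨L₀, h1, h2, h3⟩⟩
  by_cases hfin : {M | IsLine G M}.Finite
  · refine Set.Finite.subset (hfin.image fun M => M ⊓ H) ?_
    rintro U ⟨hU, hUH, hT, hoff⟩
    obtain ⟨b, hb, hb0, rfl⟩ := span_eq_of_finrank_one hU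
    obtain ⟨-, hF, hbb, htr⟩ := hT b hb hb0
    obtain ⟨K₁, K₂, K₃, -, hln, hsec, -⟩ := triple_lines hnp (finrank_ker_three hbb) htr
    obtain ⟨M, hM, hbM⟩ : ∃ M, IsLine G M ∧ b ∈ M := by
      rcases hsec b (LinearMap.mem_ker.2 hF) hF with h | h | h
      · exact ⟨K₁, hln.1, h⟩
      · exact ⟨K₂, hln.2.1, h⟩
      · exact ⟨K₃, hln.2.2, h⟩
    have hle : Submodule.span K {b} ≤ M ⊓ H :=
      le_inf ((Submodule.span_singleton_le_iff_mem b M).2 hbM) hUH
    refine ⟨M, hM, (Submodule.eq_of_le_of_finrank_le hle ?_).symm⟩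
    have hlt : M ⊓ H < M := lt_of_le_of_ne inf_le_left fun he =>
      hoff M hM (inf_eq_left.1 he) ((Submodule.span_singleton_le_iff_mem b M).2 hbM)
    have := Submodule.finrank_lt_finrank_of_lt hlt
    rw [hM.1] at this
    rw [hU]
    omega
  -- infinitely many lines: one of the lines in the tangent plane at a T-point is special
  have hspecial : {M | IsLine G M ∧ (meeting G M).Infinite}.Finite := by
    refine Set.Finite.subset (hlinesH.biUnion fun L₀ hL => finite_meeting hnp hL.1 hH3 hL.2 hnt) fun M hM => ?_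
    obtain ⟨L₀, h1, h2⟩ := special_meets hnp haF hha hnt hM.1 hM.2
    exact Set.mem_iUnion₂.2 ⟨L₀, h1, h2⟩
  choose! L₀ hL₀ hmeet using fun M (hM : IsLine G M ∧ (meeting G M).Infinite) =>
    special_meets hnp haF hha hnt hM.1 hM.2
  refine Set.Finite.subset (hspecial.biUnion fun M hM =>
    finite_fixed hha hnt (hL₀ M hM).1 (hL₀ M hM).2 (hmeet M hM)) ?_
  rintro U ⟨hU, hUH, hT, hoff⟩
  obtain ⟨b, hb, hb0, rfl⟩ := span_eq_of_finrank_one hU
  obtain ⟨-, hF, hbb, htr⟩ := hT b hb hb0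
  obtain ⟨K₁, K₂, K₃, hle, hln, hsec, -⟩ := triple_lines hnp (finrank_ker_three hbb) htr
  obtain ⟨M, hMP, hM⟩ : ∃ M, M ≤ LinearMap.ker (G.T b b) ∧ IsLine G M ∧ (meeting G M).Infinite := by
    by_contra hall
    push Not at hall
    refine hfin (Set.Finite.subset (((Set.toFinite {K₁, K₂, K₃}).union ((hall K₁ hle.1 hln.1).union ((hall K₂ hle.2.1 hln.2.1).union (hall K₃ hle.2.2 hln.2.2))))) fun N hN => ?_)
    obtain ⟨v, hv, hv0⟩ := (Submodule.ne_bot_iff _).1
      (inf_ne_bot_of_le (le_top : N ≤ ⊤) (le_top : LinearMap.ker (G.T b b) ≤ ⊤)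
        (by rw [finrank_top, Module.finrank_fin_fun, hN.1, finrank_ker_three hbb]; omega))
    by_cases hN' : N ∈ ({K₁, K₂, K₃} : Set _)
    · exact Or.inl hN'
    simp only [Set.mem_insert_iff, Set.mem_singleton_iff, not_or] at hN'
    have hm : ∀ R, v ∈ R → N ≠ R → N ∈ meeting G R := fun R hvR hne =>
      ⟨hN, hne, (Submodule.ne_bot_iff _).2 ⟨v, ⟨hv.1, hvR⟩, hv0⟩⟩
    rcases hsec v hv.2 (hN.2 v hv.1) with h | h | h
    · exact Or.inr (Or.inl (hm _ h hN'.1))
    · exact Or.inr (Or.inr (Or.inl (hm _ h hN'.2.1)))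
    · exact Or.inr (Or.inr (Or.inr (hm _ h hN'.2.2)))
  exact Set.mem_iUnion₂.2 ⟨M, hM, hU, hUH, b, hb, hF,
    fun h => hoff _ (hL₀ M hM).1 (hL₀ M hM).2 ((Submodule.span_singleton_le_iff_mem b _).2 h), hMP⟩

end Main

/-- An irreducible cubic contains no plane. -/
theorem noPlane_of_irreducible {K : Type u} [Field K] [CharZero K] [IsAlgClosed K] {G : Cubic K (Fin 4 → K)}
    (F : MvPolynomial (Fin 4) K) (hG : ∀ v, MvPolynomial.eval v F = G.F v) (hirr : Irreducible F) : NoPlane G := by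
  open MvPolynomial in
  refine no_hyperplane fun L B h => ?_
  let PL : MvPolynomial (Fin 4) K := ∑ i, MvPolynomial.C (L (Pi.single i 1)) * MvPolynomial.X i
  let PB : MvPolynomial (Fin 4) K :=
    ∑ i, ∑ j, MvPolynomial.C (B (Pi.single i 1) (Pi.single j 1)) * MvPolynomial.X i * MvPolynomial.X j
  have hL : ∀ v, MvPolynomial.eval v PL = L v := fun v => by
    conv_rhs => rw [pi_eq_sum_univ' v, map_sum]
    simp only [PL, map_sum, map_mul, MvPolynomial.eval_C, MvPolynomial.eval_X, map_smul, smul_eq_mul]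
    exact Finset.sum_congr rfl fun i _ => mul_comm _ _
  have hB : ∀ v, MvPolynomial.eval v PB = B v v := fun v => by
    conv_rhs => rw [pi_eq_sum_univ' v]
    simp only [PB, map_sum, map_mul, MvPolynomial.eval_C, MvPolynomial.eval_X, map_smul, LinearMap.sum_apply,
      LinearMap.smul_apply, smul_eq_mul, Finset.mul_sum]
    rw [Finset.sum_comm]
    exact Finset.sum_congr rfl fun i _ => Finset.sum_congr rfl fun j _ => by ring
  have hF' : F = PL * PB := MvPolynomial.funext fun v => by rw [map_mul, hL, hB, hG, h]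
  rcases hirr.isUnit_or_isUnit hF' with hu | hu
  · simpa [PL] using hu.map (MvPolynomial.eval (0 : Fin 4 → K))
  · simpa [PB] using hu.map (MvPolynomial.eval (0 : Fin 4 → K))

end

end Groth.Agent.CubicLib
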